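import Mathlib

/-!
Elements fixing one point of a coset space, and products of pairs of them.
-/

set_option autoImplicit false

namespace CfsgLib.HeUnique

variable {G : Type*} [Group G]

/-- `e` fixes only the base coset of `G0`. -/
def Fix (G0 : Subgroup G) (e : G) : Prop := ∀ g : G, g * e * g⁻¹ ∈ G0 → g ∈ G0

theorem Fix.cent {G0 : Subgroup G} {e g : G} (h : Fix G0 e) (he : e ∈ G0) (hg : g * e = e * g) :
    g ∈ G0 :=
  h g (by rwa [hg, mul_inv_cancel_right])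

/-- Conjugates inside inherit the property. -/
theorem Fix.conj {G0 : Subgroup G} {e a : G} (h : Fix G0 e) (ha : a ∈ G0) :
    Fix G0 (a * e * a⁻¹) := by
  intro g hg
  have h1 : g * a ∈ G0 := h _ (by
    rwa [show g * a * e * (g * a)⁻¹ = g * (a * e * a⁻¹) * g⁻¹ by group])
  simpa using G0.mul_mem h1 (G0.inv_mem ha)

theorem Fix.of_conj {G0 : Subgroup G} {e a : G} (ha : a ∈ G0) (h : Fix G0 (a * e * a⁻¹)) :
    Fix G0 e := by
  simpa [mul_assoc] using h.conj (G0.inv_mem ha)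

/-- An element with its centralizer inside fixes one coset, if all its conjugates inside commute
with a conjugate of a fixed such element. -/
theorem fix_of_cent {G0 : Subgroup G} {z e : G} (hz : Fix G0 z) (he : e * e = 1)
    (hcent : ∀ g : G, g * e = e * g → g ∈ G0)
    (hS : ∀ w ∈ G0, w * w = 1 → ∃ a ∈ G0, a * z * a⁻¹ * w = w * (a * z * a⁻¹)) : Fix G0 e := by
  intro g hg
  obtain ⟨a, ha, hx⟩ := hS _ hg (by
    calc g * e * g⁻¹ * (g * e * g⁻¹) = g * (e * e) * g⁻¹ := by group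
      _ = 1 := by rw [he]; group)
  set x := a * z * a⁻¹
  have hc : g⁻¹ * x * g ∈ G0 := hcent _ (by
    calc g⁻¹ * x * g * e = g⁻¹ * (x * (g * e * g⁻¹)) * g := by group
      _ = g⁻¹ * ((g * e * g⁻¹) * x) * g := by rw [hx]
      _ = e * (g⁻¹ * x * g) := by group)
  have h1 : g⁻¹ * a ∈ G0 := hz _ (by rwa [show g⁻¹ * a * z * (g⁻¹ * a)⁻¹ = g⁻¹ * x * g by
    simp only [x]; group])
  simpa using G0.mul_mem ha (G0.inv_mem h1)

/-- Two involutions: conjugate if their product has odd order, otherwise a third involution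
commutes with both. -/
theorem dihedral_pair [Finite G] {z e : G} (hz : z * z = 1) (he : e * e = 1) (K : Subgroup G)
    (hzK : z ∈ K) (heK : e ∈ K) :
    (Odd (orderOf (z * e)) ∧ ∃ g ∈ K, g * e * g⁻¹ = z) ∨ ∃ w ∈ K, w ∈ Subgroup.zpowers (z * e) ∧
      w ≠ 1 ∧ w * w = 1 ∧ w * z = z * w ∧ w * e = e * w ∧
      (((∃ g ∈ K, g * z * g⁻¹ = z * w) ∧ ∃ g ∈ K, g * e * g⁻¹ = e * w) ∨
        ∃ g ∈ K, g * e * g⁻¹ = z * w) := by
  set p := z * e with hp
  have hzi : z⁻¹ = z := inv_eq_of_mul_eq_one_right hz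
  have hei : e⁻¹ = e := inv_eq_of_mul_eq_one_right he
  have hpK : p ∈ K := K.mul_mem hzK heK
  have hze : SemiconjBy z p p⁻¹ := by
    show z * p = p⁻¹ * z
    rw [hp, mul_inv_rev, hzi, hei, ← mul_assoc, hz, one_mul, mul_assoc, hz, mul_one]
  have hee : SemiconjBy e p p⁻¹ := by
    show e * p = p⁻¹ * e
    rw [hp, mul_inv_rev, hzi, hei, mul_assoc]
  have ez : ∀ n : ℕ, p ^ n * z * (p ^ n)⁻¹ = p ^ (2 * n) * z := fun n => by
    have := (hze.pow_right n).eq
    rw [inv_pow] at this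
    rw [mul_assoc, ← inv_pow, show z * (p⁻¹) ^ n = p ^ n * z from ?_, ← mul_assoc, ← pow_add,
      two_mul]
    have h2 := congrArg (fun t => p ^ n * t * (p⁻¹) ^ n) this
    simpa [mul_assoc, inv_pow] using h2.symm
  have ee : ∀ n : ℕ, p ^ n * e * (p ^ n)⁻¹ = p ^ (2 * n) * e := fun n => by
    have := (hee.pow_right n).eq
    rw [inv_pow] at this
    rw [mul_assoc, ← inv_pow, show e * (p⁻¹) ^ n = p ^ n * e from ?_, ← mul_assoc, ← pow_add,
      two_mul]
    have h2 := congrArg (fun t => p ^ n * t * (p⁻¹) ^ n) this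
    simpa [mul_assoc, inv_pow] using h2.symm
  have pe : p * e = z := by rw [hp, mul_assoc, he, mul_one]
  rcases Nat.even_or_odd' (orderOf p) with ⟨k, hk | hk⟩
  · refine Or.inr ⟨p ^ k, K.pow_mem hpK k, Subgroup.pow_mem _ (Subgroup.mem_zpowers _) k, ?_, ?_, ?_, ?_, ?_⟩
    · intro h
      have h1 := orderOf_dvd_of_pow_eq_one h
      have h2 : 0 < orderOf p := orderOf_pos p
      have := Nat.le_of_dvd (by omega) h1
      omega
    · rw [← pow_add, ← two_mul, ← hk, pow_orderOf_eq_one]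
    · have h2 : p ^ (2 * k) = 1 := by rw [← hk, pow_orderOf_eq_one]
      have := (hze.pow_right k).eq
      rw [inv_pow, inv_eq_of_mul_eq_one_right (by rw [← pow_add, ← two_mul, h2])] at this
      exact this.symm
    · have h2 : p ^ (2 * k) = 1 := by rw [← hk, pow_orderOf_eq_one]
      have := (hee.pow_right k).eq
      rw [inv_pow, inv_eq_of_mul_eq_one_right (by rw [← pow_add, ← two_mul, h2])] at this
      exact this.symm
    · have h2 : p ^ (2 * k) = 1 := by rw [← hk, pow_orderOf_eq_one]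
      have hwi : (p ^ k)⁻¹ = p ^ k :=
        inv_eq_of_mul_eq_one_right (by rw [← pow_add, ← two_mul, h2])
      have hwz : z * p ^ k = p ^ k * z := by
        have := (hze.pow_right k).eq; rwa [inv_pow, hwi] at this
      have hwe : e * p ^ k = p ^ k * e := by
        have := (hee.pow_right k).eq; rwa [inv_pow, hwi] at this
      rcases Nat.even_or_odd' k with ⟨j, hj | hj⟩
      · refine Or.inl ⟨⟨p ^ j, K.pow_mem hpK j, ?_⟩, p ^ j, K.pow_mem hpK j, ?_⟩
        · rw [ez, ← hj, hwz]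
        · rw [ee, ← hj, hwe]
      · refine Or.inr ⟨p ^ (j + 1), K.pow_mem hpK _, ?_⟩
        rw [ee, show 2 * (j + 1) = k + 1 by omega, pow_succ, mul_assoc, pe, hwz]
  · refine Or.inl ⟨⟨k, hk⟩, p ^ (k + 1), K.pow_mem hpK _, ?_⟩
    rw [ee, show 2 * (k + 1) = orderOf p + 1 by omega, pow_succ, pow_orderOf_eq_one, one_mul, pe]

/-- The pair argument. -/
theorem pair_step [Finite G] {G0 M : Subgroup G} {z e m : G} (hz : z * z = 1) (he : e * e = 1)
    (hzM : z ∈ M) (hzG : z ∈ G0) (heM : e ∈ M) (heF : Fix G0 e)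
    (hno : ¬ ∃ h ∈ G0, h ∈ M ∧ h * e * h⁻¹ = z) (hmM : m ∈ M) :
    ∃ w ∈ M, w ≠ 1 ∧ w * w = 1 ∧ w * z = z * w ∧ w * (m * e * m⁻¹) = (m * e * m⁻¹) * w ∧
      (((∃ g ∈ M, g * z * g⁻¹ = z * w) ∧ ∃ g ∈ M, g * e * g⁻¹ = e * (m⁻¹ * w * m)) ∨
        ∃ g ∈ M, g * e * g⁻¹ = z * w) := by
  have he' : m * e * m⁻¹ * (m * e * m⁻¹) = 1 := by
    calc m * e * m⁻¹ * (m * e * m⁻¹) = m * (e * e) * m⁻¹ := by group
      _ = 1 := by rw [he]; group
  rcases dihedral_pair hz he' M hzM (M.mul_mem (M.mul_mem hmM heM) (M.inv_mem hmM)) with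
    ⟨-, g, hg, hge⟩ | ⟨w, hw, -, h1, h2, h3, h4, h5⟩
  · exfalso
    refine hno ⟨g * m, heF _ ?_, M.mul_mem hg hmM, ?_⟩
    · rw [show g * m * e * (g * m)⁻¹ = g * (m * e * m⁻¹) * g⁻¹ by group, hge]
      exact hzG
    · rw [show g * m * e * (g * m)⁻¹ = g * (m * e * m⁻¹) * g⁻¹ by group, hge]
  · refine ⟨w, hw, h1, h2, h3, h4, ?_⟩
    rcases h5 with ⟨ha, g, hg, hge⟩ | ⟨g, hg, hge⟩
    · refine Or.inl ⟨ha, m⁻¹ * g * m, M.mul_mem (M.mul_mem (M.inv_mem hmM) hg) hmM, ?_⟩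
      calc m⁻¹ * g * m * e * (m⁻¹ * g * m)⁻¹ = m⁻¹ * (g * (m * e * m⁻¹) * g⁻¹) * m := by group
        _ = _ := by rw [hge]; group
    · refine Or.inr ⟨g * m, M.mul_mem hg hmM, ?_⟩
      rw [show g * m * e * (g * m)⁻¹ = g * (m * e * m⁻¹) * g⁻¹ by group, hge]

/-- If every involution inside fixes one coset, and there are two classes, there is no other. -/
theorem eq_top_of_fix [Finite G] {G0 : Subgroup G} {z u : G} (hz : z * z = 1) (hu : u * u = 1)
    (huG : u ∈ G0) (hzF : Fix G0 z) (hzG : z ∈ G0)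
    (hfix : ∀ w ∈ G0, w ≠ 1 → w * w = 1 → Fix G0 w) (hu1 : u ≠ 1) (hne : ¬ IsConj z u) :
    G0 = ⊤ := by
  rw [eq_top_iff]
  intro g _
  have hx : g * z * g⁻¹ * (g * z * g⁻¹) = 1 := by
    calc g * z * g⁻¹ * (g * z * g⁻¹) = g * (z * z) * g⁻¹ := by group
      _ = 1 := by rw [hz]; group
  refine hzF g ?_
  rcases dihedral_pair hx hu ⊤ trivial trivial with ⟨-, a, -, ha⟩ | ⟨w, -, -, w1, w2, wx, wu, -⟩
  · refine absurd ?_ hne
    exact (isConj_iff.mpr ⟨g, rfl⟩).trans (isConj_iff.mpr ⟨a, ha⟩).symm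
  · have hwG : w ∈ G0 := (hfix u huG hu1 hu).cent huG wu
    exact (hfix w hwG w1 w2).cent hwG wx.symm

end CfsgLib.HeUnique
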