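import Cfsg.Agent.Lib.HeUnique.End.Outer

/-!
The simple groups with this centralizer of an involution.
-/

set_option autoImplicit false

open Cfsg Cfsg.Spor CfsgLib.HePres

namespace CfsgLib.HeUnique

/-- The action on the last four coordinates. -/
noncomputable def stabQuot : StabGrp →* Matrix (Fin 4) (Fin 4) (ZMod 2) where
  toFun t := Matrix.of fun i j => ((t : SL52) : Matrix (Fin 5) (Fin 5) (ZMod 2)) i.succ j.succ
  map_one' := by
    ext i j
    simp [Matrix.one_apply]
  map_mul' s t := by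
    ext i j
    have hs : ((s : SL52) : Matrix (Fin 5) (Fin 5) (ZMod 2)) i.succ 0 = 0 := by
      simpa [Fin.succ_ne_zero] using mem_stabGrp.mp s.2 i.succ
    simp [Matrix.mul_apply, Fin.sum_univ_succ, hs]

theorem stabGrp_not_simple : ¬ IsSimpleGroup StabGrp := by
  intro h
  let el : ∀ i : Fin 5, i ≠ 0 → ∀ j : Fin 5, j ≠ 0 → i ≠ j → SL52 := fun i _ j _ hij =>
    ⟨Matrix.transvection i j 1, Matrix.det_transvection_of_ne i j hij 1⟩
  let t : StabGrp := ⟨⟨Matrix.transvection 0 1 1, Matrix.det_transvection_of_ne 0 1 (by decide) 1⟩,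
    mem_stabGrp.mpr (by decide +kernel)⟩
  let u : StabGrp := ⟨el 1 (by decide) 2 (by decide) (by decide),
    mem_stabGrp.mpr (by decide +kernel)⟩
  have ht : t ∈ stabQuot.ker := by
    rw [MonoidHom.mem_ker]
    ext i j
    show (Matrix.transvection 0 1 1 : Matrix (Fin 5) (Fin 5) (ZMod 2)) i.succ j.succ = _
    fin_cases i <;> fin_cases j <;> decide +kernel
  rcases h.eq_bot_or_eq_top_of_normal stabQuot.ker inferInstance with e | e
  · have h1 : t = 1 := by simpa [e] using ht
    have := congrFun (congrFun (congrArg (fun x : StabGrp =>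
      ((x : SL52) : Matrix (Fin 5) (Fin 5) (ZMod 2))) h1) 0) 1
    revert this
    show (Matrix.transvection 0 1 1 : Matrix (Fin 5) (Fin 5) (ZMod 2)) 0 1 = (1 : Matrix _ _ _) 0 1 →
      False
    decide +kernel
  · have hu : stabQuot u = 1 := MonoidHom.mem_ker.mp (e ▸ Subgroup.mem_top u)
    have := congrFun (congrFun hu 0) 1
    revert this
    show (Matrix.transvection 1 2 1 : Matrix (Fin 5) (Fin 5) (ZMod 2)) 1 2 =
      (1 : Matrix (Fin 4) (Fin 4) (ZMod 2)) 0 1 → False
    decide +kernel

variable {G : Type*} [Group G] [Finite G] [IsSimpleGroup G] {z : G} {ι : ℕ → G}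

theorem simple_three_way (R : Rep z ι) :
    Nonempty (G ≃* SL52) ∨ Nonempty (G ≃* M24) ∨ IsoHe G := by
  rcases four_way' R (fused_of_simple R) with h | h | h | h
  · obtain ⟨φ⟩ := h
    exact absurd φ.symm.isSimpleGroup stabGrp_not_simple
  · exact Or.inl h
  · exact Or.inr (Or.inl h)
  · exact Or.inr (Or.inr h)

end CfsgLib.HeUnique
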