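import Cfsg.Agent.Lib.HeUnique.End.HeTop
import Cfsg.Agent.Lib.HeUnique.Tri
import Cfsg.Agent.Lib.Classical.Card

/-!
The isomorphisms in the cases of two swaps.
-/

set_option autoImplicit false
set_option maxRecDepth 8000

open Cfsg Cfsg.Spor CfsgLib.HePres

namespace CfsgLib.HeUnique

variable {G : Type*} [Group G] [Finite G] {z : G} {ι : ℕ → G}

theorem card_range {T : Type*} [Group T] (φ : T →* G) (h : Function.Injective φ) :
    Nat.card φ.range = Nat.card T :=
  (Nat.card_congr (MonoidHom.ofInjective h).toEquiv).symm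

theorem not_dvd_SL {T : Type*} [Group T] {n : ℕ} (hn : Nat.card T ∣ n) (h : ¬ 2 ^ 11 ∣ n)
    (φ : T →* G) (hφ : Function.Injective φ) : ¬ 2 ^ 11 ∣ Nat.card φ.range := by
  rw [card_range φ hφ]
  exact fun hd => h (hd.trans hn)

/-- The cube of a product of involutions being trivial makes them conjugate. -/
theorem conj_of_cube {T : Type*} [Group T] {x y : T} (hx : x * x = 1) (hy : y * y = 1)
    (h : (x * y) ^ 3 = 1) : (x * y) * x * (x * y)⁻¹ = y := by
  rw [mul_inv_rev, inv_eq_of_mul_eq_one_right hx, inv_eq_of_mul_eq_one_right hy]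
  calc x * y * x * (y * x) = (x * y) ^ 3 * y⁻¹ := by
        rw [inv_eq_of_mul_eq_one_right hy, pow_succ, pow_two]
        simp only [mul_assoc, hy, mul_one]
    _ = y := by rw [h, one_mul, inv_eq_of_mul_eq_one_right hy]

theorem he_rel {x y : He.Gen} (n : ℕ) (h : coxLabel He.edges x y = n) :
    ((PresentedGroup.of x : He) * PresentedGroup.of y) ^ n = 1 := by
  subst h
  have := PresentedGroup.one_of_mem
    (rels := coxRelators He.edges ∪ {r | r ∈ He.extra})
    (x := (FreeGroup.of x * FreeGroup.of y) ^ coxLabel He.edges x y)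
    (Or.inl ⟨x, nodes x, y, nodes y, rfl⟩)
  simpa [map_pow, map_mul, PresentedGroup.of] using this

theorem conj_trans {T : Type*} [Group T] {a b x y w : T} (h1 : a * x * a⁻¹ = y)
    (h2 : b * y * b⁻¹ = w) : b * a * x * (b * a)⁻¹ = w := by
  rw [← h2, ← h1]; group

theorem he_conj : ∃ a b : He,
    a * PresentedGroup.of He.Gen.e * a⁻¹ = PresentedGroup.of He.Gen.f ∧
    b * PresentedGroup.of He.Gen.e * b⁻¹ = PresentedGroup.of He.Gen.g := by
  have sq : ∀ x : He.Gen, (PresentedGroup.of x : He) * PresentedGroup.of x = 1 := fun x => by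
    have := he_rel (x := x) (y := x) 1 (by simp [coxLabel])
    rwa [pow_one] at this
  have e1 := conj_of_cube (sq He.Gen.e) (sq He.Gen.d) (he_rel 3 (by decide))
  have e2 := conj_of_cube (sq He.Gen.d) (sq He.Gen.f) (he_rel 3 (by decide))
  have e3 := conj_of_cube (sq He.Gen.d) (sq He.Gen.g) (he_rel 3 (by decide))
  refine ⟨(PresentedGroup.of He.Gen.d * PresentedGroup.of He.Gen.f) *
    (PresentedGroup.of He.Gen.e * PresentedGroup.of He.Gen.d),
    (PresentedGroup.of He.Gen.d * PresentedGroup.of He.Gen.g) *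
    (PresentedGroup.of He.Gen.e * PresentedGroup.of He.Gen.d), ?_, ?_⟩
  · exact conj_trans e1 e2
  · exact conj_trans e1 e3

theorem he_codes : genCode 5 = 34993 ∧ genCode 6 = 34948 ∧ ok 21170 = true ∧ ok 22284 = true ∧
    conj 21170 cA = 34993 ∧ conj 22284 cB = 34948 ∧ ok cB = true ∧ theta cA = cB := by
  decide +kernel

/-- An element exchanging the centre with an element of the same class inside is inside. -/
theorem swap_mem (R : Rep z ι) {H : Subgroup G} (hC : ∀ g : G, g * z = z * g → g ∈ H) {s : G}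
    {a c : ℕ} (hs : s * z * s⁻¹ = ι a) (ha : ok a = true) (hc : ok c = true) {g : G} (hg : g ∈ H)
    (he : g * z * g⁻¹ = ι (conj c a)) : s ∈ H := by
  have h1 : g⁻¹ * ι c * s ∈ H := hC _ (by
    rw [R.conj_eq hc ha, ← hs] at he
    calc g⁻¹ * ι c * s * z = g⁻¹ * (ι c * (s * z * s⁻¹) * (ι c)⁻¹) * (ι c * s) := by group
      _ = g⁻¹ * (g * z * g⁻¹) * (ι c * s) := by rw [he]
      _ = _ := by group)
  have h2 : ι c ∈ H := hC _ (R.comm hc)
  simpa [mul_assoc] using H.mul_mem (H.inv_mem h2) (H.mul_mem hg h1)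

/-- Two swaps of the Held kind give the presented group. -/
theorem he_iso (R : Rep z ι) {sA sB : G} (hA : Good ι 0 sA)
    (hB : Good (fun x => ι (theta x)) 0 sB) : IsoHe G := by
  obtain ⟨φ, he, hf, hg⟩ := held_hom R hA hB
  haveI := isHe.1
  haveI : Finite He := Nat.finite_of_card_ne_zero (by rw [isHe.2]; norm_num)
  obtain ⟨φ', hinj, hz, hC⟩ := caseHe_of_hom R φ he
  clear hinj hz hC φ'
  have hz : φ zEl = z := he
  have hinj : Function.Injective φ := injective_of_simple φ (t := zEl) (hz ▸ R.z_ne_one)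
  have hC : ∀ g : G, g * z = z * g → g ∈ φ.range := by
    obtain ⟨κ, Rκ⟩ := exists_rep transv rfl zEl zEl_order
      (((MulEquiv.subgroupCongr cent_eq).trans
        (MonoidHom.ofInjective projHe_injective).symm).trans (MulEquiv.ofBijective projT projT_bijective))
    refine range_of_model R φ hinj (κ := κ) Rκ.inj fun x hx => ?_
    rw [← hz, ← map_mul, ← map_mul, Rκ.comm hx]
  obtain ⟨c5, c6, o5, o6, f5, f6, oB, eB⟩ := he_codes
  obtain ⟨a, b, ha, hb⟩ := he_conj
  have sz : sA * z * sA⁻¹ = ι cA ∧ sB * z * sB⁻¹ = ι cB := by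
    refine ⟨(hA.act.center R (by norm_num)).1, ?_⟩
    have := (hB.act.center R.theta' (by norm_num)).1
    simpa [eB] using this
  have hsA : sA ∈ φ.range := swap_mem R hC sz.1 gensK_facts.1 o5 (g := φ a) ⟨a, rfl⟩ (by
    rw [f5, ← c5, ← hf, ← ha, ← he, map_mul, map_mul, map_inv])
  have hsB : sB ∈ φ.range := swap_mem R hC sz.2 oB o6 (g := φ b) ⟨b, rfl⟩ (by
    rw [f6, ← c6, ← hg, ← hb, ← he, map_mul, map_mul, map_inv])
  have hcard : Nat.card He = 4030387200 := isHe.2
  have htop := he_eq_top R hC (not_dvd_SL hcard.dvd (by norm_num) φ hinj) hsA hsB hA hB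
  exact ⟨(MulEquiv.ofBijective φ ⟨hinj, MonoidHom.range_eq_top.mp htop⟩).symm⟩

theorem m24_iso (R : Rep z ι) {sA sB : G} (hA : Good ι 0 sA)
    (hB : Good (fun x => ι (theta x)) 2 sB) : Nonempty (G ≃* M24) := by
  obtain ⟨φ, hz, hsA, hsB⟩ := mix_hom R hA hB
  haveI : IsSimpleGroup M24 := CfsgLib.Golay.isSimpleGroup_M24
  have hinj : Function.Injective φ := injective_of_simple φ (t := ιM zc) (hz ▸ R.z_ne_one)
  have hC : ∀ g : G, g * z = z * g → g ∈ φ.range := by
    refine range_of_model R φ hinj (κ := ιM) (fun x y hx hy e => ?_) (fun x hx => ?_)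
    · have h1 : ιM (cmul x (cinv y)) = 1 := by
        rw [ιM_mul hx (inv_facts hy).1, e, ← ιM_mul hy (inv_facts hy).1, (inv_facts hy).2, ιM_one]
      have := congrArg (fun w => cmul w y) (ιM_eq_one (ok_cmul hx (inv_facts hy).1) h1)
      simpa [cmul_assoc hx (inv_facts hy).1 hy, cinv_mul hy, (cmul_one hx).1, (cmul_one hy).2]
        using this
    · rw [← hz, ← map_mul, ← map_mul, ← ιM_mul hx ok_zc, ← ιM_mul ok_zc hx, zc_comm hx]
  have htop := mix_eq_top R hC (not_dvd_SL CfsgLib.Golay.natCard_M24.dvd (by norm_num) φ hinj)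
    hsA hsB hA hB
  exact ⟨(MulEquiv.ofBijective φ ⟨hinj, MonoidHom.range_eq_top.mp htop⟩).symm⟩

theorem card_SL52 : Nat.card SL52 = 9999360 := by
  haveI : Fact (Nat.Prime 2) := ⟨Nat.prime_two⟩
  have h := CfsgLib.Classical.sub_one_mul_card_SL (F := ZMod 2) (n := 5) (by norm_num)
  simp [-Nat.card_eq_fintype_card, Fin.prod_univ_five] at h
  omega

theorem sl_iso (R : Rep z ι) {sA sB : G} (hA : Good ι 2 sA)
    (hB : Good (fun x => ι (theta x)) 2 sB) : Nonempty (G ≃* SL52) := by
  obtain ⟨φ, hz, hsA, hsB⟩ := five_hom R hA hB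
  haveI := simple_SL52
  have hinj : Function.Injective φ := injective_of_simple φ (t := toSL zc) (hz ▸ R.z_ne_one)
  have hC : ∀ g : G, g * z = z * g → g ∈ φ.range := by
    refine range_of_model R φ hinj (κ := toSL) (fun x y hx hy e => ?_) (fun x hx => ?_)
    · refine mat_inj (ok_lt hx) (ok_lt hy) ?_
      rw [← mat_toSL hx, ← mat_toSL hy, e]
    · rw [← hz, ← map_mul, ← map_mul, ← toSL_mul hx ok_zc, ← toSL_mul ok_zc hx, zc_comm hx]
  have htop := five_eq_top R hC (not_dvd_SL card_SL52.dvd (by norm_num) φ hinj) hsA hsB hA hB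
  exact ⟨(MulEquiv.ofBijective φ ⟨hinj, MonoidHom.range_eq_top.mp htop⟩).symm⟩

end CfsgLib.HeUnique
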