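import Cfsg.Agent.Lib.HeUnique.Tri
import Cfsg.Agent.Lib.HeUnique.End.Abstract

/-!
Involutions of the model sorted by whether they are fused to the central involution.
-/

set_option autoImplicit false
set_option maxRecDepth 8000

namespace CfsgLib.HeUnique

/-- The number of the class of an involution code. -/
def cls (x : ℕ) : ℕ := (invWit.get (invMats.idxOf (fA x) * 128 + x % 128)).1

/-- Commuting codes. -/
def comC (x y : ℕ) : Bool := cmul x y == cmul y x

/-- Involution codes. -/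
def invC (x : ℕ) : Bool := ok x && cmul x x == one && !(x == one)

/-- Codes of involutions of the given classes, and the central one. -/
def isP (Pc : List ℕ) (x : ℕ) : Bool := x == zc || Pc.contains (cls x)

/-- A check of all involution codes. -/
noncomputable def invScan (f : ℕ → Bool) : Bool :=
  CosetEnum.allUp (fun i => let b := invMats.getD (i / 128) 273 * 128 + i % 128
    bif invC b then f b else true) 12 0

theorem cls_spec {x : ℕ} (hx : invC x = true) (hz : x ≠ zc) :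
    cls x < 7 ∧ ∃ c, ok c = true ∧ conj c (invReps.getD (cls x) 0) = x := by
  simp only [invC, Bool.and_eq_true, beq_iff_eq, Bool.not_eq_true', beq_eq_false_iff_ne] at hx
  obtain ⟨⟨ox, h2⟩, h1⟩ := hx
  have hA : mm (fA x) (fA x) = 273 := by
    rw [← fA_cmul (ok_lt ox) (ok_lt ox), h2]; decide
  have hm := range_all invMats_all (fA_lt (ok_lt ox))
  simp only [okA_of ox, hA, beq_self_eq_true, Bool.and_self, cond_true, List.contains_iff_mem] at hm
  have hl : invMats.length = 22 := by decide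
  have hj := List.idxOf_lt_length_iff.mpr hm
  have h := CosetEnum.allUp_spec invol_class (invMats.idxOf (fA x) * 128 + x % 128) (Nat.zero_le _)
    (by norm_num; omega)
  rw [show (invMats.idxOf (fA x) * 128 + x % 128) / 128 = invMats.idxOf (fA x) by omega,
    show (invMats.idxOf (fA x) * 128 + x % 128) % 128 = x % 128 by omega,
    List.getD_eq_getElem _ _ hj, List.getElem_idxOf,
    show fA x * 128 + x % 128 = x by simp only [fA]; omega] at h
  simp only [ox, h2, beq_self_eq_true, beq_eq_false_iff_ne.mpr h1, beq_eq_false_iff_ne.mpr hz,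
    Bool.not_false, Bool.and_self, cond_true, Bool.and_eq_true, decide_eq_true_eq, beq_iff_eq] at h
  exact ⟨h.1.1, _, h.1.2, h.2⟩

theorem invScan_spec {f : ℕ → Bool} (h : invScan f = true) {b : ℕ} (hb : invC b = true) :
    f b = true := by
  have hb' := hb
  simp only [invC, Bool.and_eq_true, beq_iff_eq] at hb'
  have hA : mm (fA b) (fA b) = 273 := by
    rw [← fA_cmul (ok_lt hb'.1.1) (ok_lt hb'.1.1), hb'.1.2]; decide
  have hm := range_all invMats_all (fA_lt (ok_lt hb'.1.1))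
  simp only [okA_of hb'.1.1, hA, beq_self_eq_true, Bool.and_self, cond_true,
    List.contains_iff_mem] at hm
  have hl : invMats.length = 22 := by decide
  have hj := List.idxOf_lt_length_iff.mpr hm
  have h' := CosetEnum.allUp_spec h (invMats.idxOf (fA b) * 128 + b % 128) (Nat.zero_le _)
    (by norm_num; omega)
  rw [show (invMats.idxOf (fA b) * 128 + b % 128) / 128 = invMats.idxOf (fA b) by omega,
    show (invMats.idxOf (fA b) * 128 + b % 128) % 128 = b % 128 by omega,
    List.getD_eq_getElem _ _ hj, List.getElem_idxOf,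
    show fA b * 128 + b % 128 = b by simp only [fA]; omega] at h'
  simpa only [hb, cond_true] using h'

variable {G : Type*} [Group G] {z : G} {ι : ℕ → G}

theorem Rep.code_of_invol (R : Rep z ι) {w : G} (hw : w * z = z * w) (h2 : w * w = 1)
    (h1 : w ≠ 1) : ∃ b, invC b = true ∧ ι b = w := by
  obtain ⟨b, ob, rfl⟩ := R.surj w hw
  refine ⟨b, ?_, rfl⟩
  simp only [invC, ob, Bool.true_and, Bool.and_eq_true, beq_iff_eq, Bool.not_eq_true',
    beq_eq_false_iff_ne]
  refine ⟨R.inj _ _ (ok_cmul ob ob) ok_one (by rw [R.hmul _ _ ob ob, h2, R.hone]), ?_⟩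
  rintro rfl
  exact h1 R.hone

theorem invC_ok {x : ℕ} (hx : invC x = true) : ok x = true := by
  simp only [invC, Bool.and_eq_true] at hx
  exact hx.1.1

theorem Rep.invol (R : Rep z ι) {x : ℕ} (hx : invC x = true) : ι x * ι x = 1 ∧ ι x ≠ 1 := by
  simp only [invC, Bool.and_eq_true, beq_iff_eq, Bool.not_eq_true', beq_eq_false_iff_ne] at hx
  refine ⟨by rw [← R.hmul _ _ hx.1.1 hx.1.1, hx.1.2, R.hone], fun h => hx.2 ?_⟩
  exact R.inj _ _ hx.1.1 ok_one (h.trans R.hone.symm)

/-- A subgroup containing the centralizer, with its classes of involutions sorted. -/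
structure Ctx (z : G) (ι : ℕ → G) (G0 : Subgroup G) (Pc : List ℕ) : Prop where
  cent : ∀ g : G, g * z = z * g → g ∈ G0
  comm : ∀ w ∈ G0, w * w = 1 → ∃ a ∈ G0, a * z * a⁻¹ * w = w * (a * z * a⁻¹)
  pos : ∀ r < 7, Pc.contains r = true → ∃ g ∈ G0, g * z * g⁻¹ = ι (invReps.getD r 0)
  neg : ∀ r < 7, Pc.contains r = false → ¬ IsConj z (ι (invReps.getD r 0))

variable {G0 : Subgroup G} {Pc : List ℕ}

theorem Ctx.mem (D : Ctx z ι G0 Pc) (R : Rep z ι) {x : ℕ} (hx : ok x = true) : ι x ∈ G0 :=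
  D.cent _ (R.comm hx)

theorem Ctx.zmem (D : Ctx z ι G0 Pc) : z ∈ G0 := D.cent z rfl

theorem invReps_ok {r : ℕ} (hr : r < 7) : ok (invReps.getD r 0) = true := by
  obtain ⟨-, -, -, hl, hall⟩ := invReps_head
  rw [List.getD_eq_getElem _ _ (by omega)]
  exact mem_all hall (List.getElem_mem _)

theorem Ctx.isP_iff (D : Ctx z ι G0 Pc) (R : Rep z ι) {x : ℕ} (hx : invC x = true) :
    (isP Pc x = true → ∃ g ∈ G0, g * z * g⁻¹ = ι x) ∧ (isP Pc x = false → ¬ IsConj z (ι x)) := by
  by_cases hz : x = zc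
  · subst hz
    refine ⟨fun _ => ⟨1, one_mem _, by rw [R.z_eq]; group⟩, fun h => ?_⟩
    simp [isP] at h
  obtain ⟨hr, c, oc, hc⟩ := cls_spec hx hz
  have e := R.conj_eq oc (invReps_ok hr)
  rw [hc] at e
  simp only [isP, beq_eq_false_iff_ne.mpr hz, Bool.false_or]
  refine ⟨fun h => ?_, fun h hh => ?_⟩
  · obtain ⟨g, hg, hge⟩ := D.pos _ hr h
    exact ⟨ι c * g, G0.mul_mem (D.mem R oc) hg, by rw [e, ← hge]; group⟩
  · refine D.neg _ hr h (hh.trans ?_)
    rw [e]
    exact (isConj_iff.mpr ⟨ι c, rfl⟩).symm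

theorem Ctx.fix_z (D : Ctx z ι G0 Pc) (R : Rep z ι) : Fix G0 z := by
  intro g hg
  have hz2 : z * z = 1 := z_sq R
  obtain ⟨a, ha, hx⟩ := D.comm _ hg (by
    calc g * z * g⁻¹ * (g * z * g⁻¹) = g * (z * z) * g⁻¹ := by group
      _ = 1 := by rw [hz2]; group)
  have hb : a⁻¹ * g * z * (a⁻¹ * g)⁻¹ * z = z * (a⁻¹ * g * z * (a⁻¹ * g)⁻¹) := by
    calc a⁻¹ * g * z * (a⁻¹ * g)⁻¹ * z = a⁻¹ * (g * z * g⁻¹ * (a * z * a⁻¹)) * a := by group
      _ = a⁻¹ * (a * z * a⁻¹ * (g * z * g⁻¹)) * a := by rw [hx]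
      _ = _ := by group
  obtain ⟨b, hbi, hbe⟩ := R.code_of_invol hb (by
    calc a⁻¹ * g * z * (a⁻¹ * g)⁻¹ * (a⁻¹ * g * z * (a⁻¹ * g)⁻¹)
        = a⁻¹ * g * (z * z) * (a⁻¹ * g)⁻¹ := by group
      _ = 1 := by rw [hz2]; group) (by
    intro h
    exact R.z_ne_one (by
      calc z = (a⁻¹ * g)⁻¹ * (a⁻¹ * g * z * (a⁻¹ * g)⁻¹) * (a⁻¹ * g) := by group
        _ = 1 := by rw [h]; group))
  cases hP : isP Pc b with
  | false => exact ((D.isP_iff R hbi).2 hP (isConj_iff.mpr ⟨a⁻¹ * g, hbe.symm⟩)).elim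
  | true =>
    obtain ⟨h, hh, hhe⟩ := (D.isP_iff R hbi).1 hP
    have : h⁻¹ * (a⁻¹ * g) ∈ G0 := D.cent _ (by
      have e := hhe.trans hbe
      calc h⁻¹ * (a⁻¹ * g) * z = h⁻¹ * (a⁻¹ * g * z * (a⁻¹ * g)⁻¹) * (a⁻¹ * g) := by group
        _ = h⁻¹ * (h * z * h⁻¹) * (a⁻¹ * g) := by rw [e]
        _ = z * (h⁻¹ * (a⁻¹ * g)) := by group)
    simpa using G0.mul_mem (G0.mul_mem ha hh) this

/-- A conjugate of the central involution inside fixes one coset. -/
theorem Ctx.fix_of_isConj (D : Ctx z ι G0 Pc) (R : Rep z ι) {x : G} (hx : x ∈ G0)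
    (h : IsConj z x) : Fix G0 x := by
  obtain ⟨a, rfl⟩ := isConj_iff.mp h
  exact (D.fix_z R).conj (D.fix_z R a hx)

theorem Ctx.fix_isP (D : Ctx z ι G0 Pc) (R : Rep z ι) {x : ℕ} (hx : invC x = true)
    (hP : isP Pc x = true) : Fix G0 (ι x) := by
  obtain ⟨g, hg, hge⟩ := (D.isP_iff R hx).1 hP
  rw [← hge]
  exact (D.fix_z R).conj hg

/-- Criterion for having everything. -/
theorem Ctx.eq_top [Finite G] (D : Ctx z ι G0 Pc) (R : Rep z ι) {u : ℕ} (hu : invC u = true)
    (hnP : isP Pc u = false) (hreps : ∀ r < 7, Pc.contains r = false → Fix G0 (ι (invReps.getD r 0))) :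
    G0 = ⊤ := by
  refine eq_top_of_fix (z_sq R) (R.invol hu).1 (D.mem R (invC_ok hu)) (D.fix_z R) D.zmem
    (fun w hw w1 w2 => ?_) (R.invol hu).2 ((D.isP_iff R hu).2 hnP)
  obtain ⟨a, ha, hx⟩ := D.comm w hw w2
  obtain ⟨b, hb, hbe⟩ := R.code_of_invol (w := a⁻¹ * w * a) (by
      calc a⁻¹ * w * a * z = a⁻¹ * (w * (a * z * a⁻¹)) * a := by group
        _ = a⁻¹ * ((a * z * a⁻¹) * w) * a := by rw [hx]
        _ = z * (a⁻¹ * w * a) := by group) (by
      calc a⁻¹ * w * a * (a⁻¹ * w * a) = a⁻¹ * (w * w) * a := by group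
        _ = 1 := by rw [w2]; group) (by
      intro h
      exact w1 (by
        calc w = a * (a⁻¹ * w * a) * a⁻¹ := by group
          _ = 1 := by rw [h]; group))
  have hb' : Fix G0 (ι b) := by
    cases hP : isP Pc b with
    | true => exact D.fix_isP R hb hP
    | false =>
      have hz : b ≠ zc := by rintro rfl; simp [isP] at hP
      obtain ⟨hr, c, oc, hc⟩ := cls_spec hb hz
      rw [← hc, R.conj_eq oc (invReps_ok hr)]
      refine (hreps _ hr ?_).conj (D.mem R oc)
      simpa [isP, beq_eq_false_iff_ne.mpr hz] using hP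
  have := hb'.conj ha
  rwa [hbe, show a * (a⁻¹ * w * a) * a⁻¹ = w by group] at this

/-! ### Transport along the tables -/

/-- Image of a code along a path of conjugations and table steps. -/
def route (ts : List (Tree (ℕ × ℕ))) : List (ℕ × ℕ × ℕ) → ℕ → Option ℕ
  | [], x => some x
  | (c, k, m) :: l, x =>
    bif ok c && decide (k < ts.length) && decide (m < 1536) &&
        ((ts.getD k tabA).get m).1 == conj c x then
      route ts l ((ts.getD k tabA).get m).2
    else none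

theorem route_spec (R : Rep z ι) {H : Subgroup G} (hC : ∀ g : G, g * z = z * g → g ∈ H)
    {ts : List (Tree (ℕ × ℕ))}
    (hts : ∀ k < ts.length, ∃ s ∈ H, TabAct ι (ts.getD k tabA) s) :
    ∀ {l : List (ℕ × ℕ × ℕ)} {x y : ℕ}, ok x = true → route ts l x = some y →
      ok y = true ∧ ∃ g ∈ H, ∀ a, g * ι x * g⁻¹ = a → a = ι y
  | [], x, y, hx, h => by
    simp only [route, Option.some.injEq] at h
    subst h
    exact ⟨hx, 1, one_mem _, fun a ha => by rw [← ha]; group⟩
  | (c, k, m) :: l, x, y, hx, h => by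
    rw [route] at h
    cases hb : (ok c && decide (k < ts.length) && decide (m < 1536) &&
        ((ts.getD k tabA).get m).1 == conj c x) with
    | false => rw [hb] at h; simp at h
    | true =>
      rw [hb, cond_true] at h
      simp only [Bool.and_eq_true, decide_eq_true_eq, beq_iff_eq] at hb
      obtain ⟨⟨⟨oc, hk⟩, hm⟩, he⟩ := hb
      obtain ⟨s, hs, hact⟩ := hts k hk
      obtain ⟨o2, ha⟩ := hact m hm
      obtain ⟨oy, g, hg, hgy⟩ := route_spec R hC hts o2 h
      refine ⟨oy, g * s * ι c, H.mul_mem (H.mul_mem hg hs) (hC _ (R.comm oc)), fun a e => ?_⟩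
      refine hgy a ?_
      rw [← e, ← ha, he, R.conj_eq oc hx]
      group

/-- A path ending at a given code. -/
def routeOK (ts : List (Tree (ℕ × ℕ))) (p : List (ℕ × ℕ × ℕ) × ℕ) (x y : ℕ) : Bool :=
  match route ts p.1 x with
  | some t => ok p.2 && conj p.2 t == y
  | none => false

theorem routeOK_spec (R : Rep z ι) {H : Subgroup G} (hC : ∀ g : G, g * z = z * g → g ∈ H)
    {ts : List (Tree (ℕ × ℕ))}
    (hts : ∀ k < ts.length, ∃ s ∈ H, TabAct ι (ts.getD k tabA) s)
    {p : List (ℕ × ℕ × ℕ) × ℕ} {x y : ℕ} (hx : ok x = true) (h : routeOK ts p x y = true) :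
    ∃ g ∈ H, g * ι x * g⁻¹ = ι y := by
  unfold routeOK at h
  cases hw : route ts p.1 x with
  | none => rw [hw] at h; simp at h
  | some t =>
    rw [hw] at h
    simp only [Bool.and_eq_true, beq_iff_eq] at h
    obtain ⟨ot, g, hg, hgt⟩ := route_spec R hC hts hx hw
    refine ⟨ι p.2 * g, H.mul_mem (hC _ (R.comm h.1)) hg, ?_⟩
    rw [← h.2, R.conj_eq h.1 ot, ← hgt _ rfl]
    group

/-- The sorting of the classes from paths to the central involution or to the third class. -/
theorem ctx_of_paths (R : Rep z ι) (hC : ∀ g : G, g * z = z * g → g ∈ G0)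
    (hS : ∀ w ∈ G0, w * w = 1 → ∃ a ∈ G0, a * z * a⁻¹ * w = w * (a * z * a⁻¹))
    {ts : List (Tree (ℕ × ℕ))}
    (hts : ∀ k < ts.length, ∃ s ∈ G0, TabAct ι (ts.getD k tabA) s)
    {paths : List (List (ℕ × ℕ × ℕ) × ℕ)}
    (h : ((List.range 7).all fun r => routeOK ts (paths.getD r ([], 0)) (invReps.getD r 0)
      (bif Pc.contains r then zc else cAB)) = true) : Ctx z ι G0 Pc := by
  refine ⟨hC, hS, fun r hr hc => ?_, fun r hr hc hh => ?_⟩
  · have h' := range_all h hr
    rw [hc, cond_true] at h'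
    obtain ⟨g, hg, he⟩ := routeOK_spec R hC hts (invReps_ok hr) h'
    rw [R.z_eq] at he
    exact ⟨g⁻¹, G0.inv_mem hg, by rw [← he]; group⟩
  · have h' := range_all h hr
    rw [hc, cond_false] at h'
    obtain ⟨g, -, he⟩ := routeOK_spec R hC hts (invReps_ok hr) h'
    exact not_fused_cAB R (hh.trans (isConj_iff.mpr ⟨g, he⟩))

end CfsgLib.HeUnique
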