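import Cfsg.Agent.Lib.HeUnique.Basic

/-!
The order of the centralizer, and conjugates of the central involution commuting with a given one.
-/

set_option autoImplicit false

namespace CfsgLib.HeUnique

theorem okA_count : Fintype.card {A : Fin 512 // okA A.val = true} = 168 := by decide +kernel

theorem ok_split (A : Fin 512) (l : Fin 128) : ok (A.val * 128 + l.val) = okA A.val := by
  have hA := A.2
  have hl := l.2
  have hf : fA (A.val * 128 + l.val) = A.val := by simp only [fA]; omega
  unfold ok okA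
  rw [hf, decide_eq_true (by omega : A.val * 128 + l.val < 65536), Bool.true_and]

/-- The codes as a type. -/
def codeEquiv : {A : Fin 512 // okA A.val = true} × Fin 128 ≃ {x : Fin 65536 // ok x.val = true} where
  toFun p := ⟨⟨p.1.1.val * 128 + p.2.val, by have := p.1.1.2; have := p.2.2; omega⟩,
    (ok_split p.1.1 p.2).trans p.1.2⟩
  invFun x := (⟨⟨fA x.1.val, fA_lt x.1.2⟩, okA_of x.2⟩, ⟨x.1.val % 128, Nat.mod_lt _ (by norm_num)⟩)
  left_inv p := by
    have := p.2.2
    refine Prod.ext (Subtype.ext (Fin.ext ?_)) (Fin.ext ?_)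
    · show (p.1.1.val * 128 + p.2.val) / 128 = p.1.1.val
      omega
    · show (p.1.1.val * 128 + p.2.val) % 128 = p.2.val
      omega
  right_inv x := by
    refine Subtype.ext (Fin.ext ?_)
    show x.1.val / 128 * 128 + x.1.val % 128 = x.1.val
    omega

variable {G : Type*} [Group G] {z : G} {ι : ℕ → G}

theorem card_centralizer (R : Rep z ι) :
    Nat.card (Subgroup.centralizer ({z} : Set G)) = 21504 := by
  let f : {x : Fin 65536 // ok x.val = true} → Subgroup.centralizer ({z} : Set G) :=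
    fun x => ⟨ι x.1.val, Subgroup.mem_centralizer_singleton_iff.mpr (R.comm x.2)⟩
  have hb : Function.Bijective f := by
    refine ⟨fun a b h => ?_, fun g => ?_⟩
    · exact Subtype.ext (Fin.ext (R.inj _ _ a.2 b.2 (congrArg Subtype.val h)))
    · obtain ⟨x, hx, he⟩ := R.surj g (Subgroup.mem_centralizer_singleton_iff.mp g.2)
      exact ⟨⟨⟨x, ok_lt hx⟩, hx⟩, Subtype.ext he⟩
  rw [← Nat.card_eq_of_bijective f hb, ← Nat.card_congr codeEquiv, Nat.card_prod,
    Nat.card_eq_fintype_card, okA_count, Nat.card_eq_fintype_card, Fintype.card_fin]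

/-- If the centralizer contains a Sylow subgroup, involutions commute with conjugates of the
centre. -/
theorem comm_of_card [Finite G] (R : Rep z ι) {G0 : Subgroup G}
    (hC : ∀ g : G, g * z = z * g → g ∈ G0) (h11 : ¬ 2 ^ 11 ∣ Nat.card G0) :
    ∀ w ∈ G0, w * w = 1 → ∃ a ∈ G0, a * z * a⁻¹ * w = w * (a * z * a⁻¹) := by
  intro w hw w2
  haveI : Fact (Nat.Prime 2) := ⟨Nat.prime_two⟩
  set C := Subgroup.centralizer ({z} : Set G)
  have hle : C ≤ G0 := fun g hg => hC g (Subgroup.mem_centralizer_singleton_iff.mp hg)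
  set C' := C.subgroupOf G0
  have hC' : Nat.card C' = 21504 := by
    rw [Nat.card_congr (Subgroup.subgroupOfEquivOfLe hle).toEquiv]
    exact card_centralizer R
  obtain ⟨P, hP⟩ := Sylow.exists_subgroup_card_pow_prime 2 (G := C') (n := 10) (by
    rw [hC']; norm_num)
  have hPm : Nat.card (P.map C'.subtype) = 2 ^ 10 := by
    rw [Subgroup.card_map_of_injective C'.subtype_injective, hP]
  have hv : (Nat.card G0).factorization 2 = 10 := by
    have h10 : 2 ^ 10 ∣ Nat.card G0 := hPm ▸ Subgroup.card_subgroup_dvd_card _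
    have h0 : Nat.card G0 ≠ 0 := Nat.card_pos.ne'
    have := (Nat.prime_two.pow_dvd_iff_le_factorization h0).mp h10
    have := (Nat.prime_two.pow_dvd_iff_le_factorization h0).not.mp h11
    omega
  let S : Sylow 2 G0 := Sylow.ofCard (P.map C'.subtype) (by rw [hPm, hv])
  set w' : G0 := ⟨w, hw⟩
  have hpw : IsPGroup 2 (Subgroup.zpowers w') := by
    rintro ⟨g, k, rfl⟩
    refine ⟨1, Subtype.ext ?_⟩
    show (w' ^ k) ^ (2 ^ 1) = 1
    rw [pow_one, ← zpow_natCast, ← zpow_mul, mul_comm, zpow_mul, zpow_natCast,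
      show w' ^ 2 = 1 from Subtype.ext (by simpa [pow_two, w'] using w2), one_zpow]
  obtain ⟨Q, hQ⟩ := hpw.exists_le_sylow
  obtain ⟨a, ha⟩ := MulAction.exists_smul_eq G0 S Q
  have hw' : w' ∈ (Q : Subgroup G0) := hQ (Subgroup.mem_zpowers w')
  rw [← ha, Sylow.coe_subgroup_smul, Subgroup.mem_pointwise_smul_iff_inv_smul_mem] at hw'
  have hc : (MulAut.conj a)⁻¹ • w' ∈ C' := Subgroup.map_subtype_le P hw'
  rw [Subgroup.mem_subgroupOf, Subgroup.mem_centralizer_singleton_iff] at hc
  simp only [MulAut.smul_def, MulAut.inv_def, MulAut.conj_symm_apply, Subgroup.coe_mul,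
    Subgroup.coe_inv, w'] at hc
  refine ⟨a, a.2, ?_⟩
  calc (a : G) * z * (a : G)⁻¹ * w = (a : G) * (z * ((a : G)⁻¹ * w * a)) * (a : G)⁻¹ := by group
    _ = (a : G) * ((a : G)⁻¹ * w * a * z) * (a : G)⁻¹ := by rw [hc]
    _ = _ := by group

end CfsgLib.HeUnique
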