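import Cfsg.Agent.Lib.HeUnique.Cert

/-!
Paths between classes of involutions.
-/

set_option autoImplicit false
set_option linter.style.longLine false

namespace CfsgLib.HeUnique

/-- the fused classes -/
def pcHe : List ℕ := [0, 1, 3, 5, 6]

/-- their paths -/
def pathsHe : List (List (ℕ × ℕ × ℕ) × ℕ) := [
  ([(34944, 0, 777)], 34944),
  ([(34944, 1, 777)], 34944),
  ([], 34944),
  ([(18192, 1, 45), (26189, 0, 777)], 34944),
  ([(23681, 0, 208)], 29881),
  ([(26443, 1, 214), (60752, 1, 777)], 34944),
  ([(22731, 0, 214), (20979, 0, 777)], 34944)]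

/-- a fused element moved by the first involution -/
def partnerHe : ℕ := 34948

/-- the fused classes -/
def pcMix : List ℕ := [0, 1, 3, 6]

/-- their paths -/
def pathsMix : List (List (ℕ × ℕ × ℕ) × ℕ) := [
  ([(34944, 0, 777)], 34944),
  ([(34944, 1, 777)], 34944),
  ([], 34944),
  ([(18192, 1, 45), (45830, 0, 777)], 34944),
  ([(23681, 0, 208)], 29881),
  ([(17983, 1, 237)], 26461),
  ([(22731, 0, 214), (20979, 0, 777)], 34944)]

/-- a fused element moved by the first involution -/
def partnerMix : ℕ := 34948

/-- the fused classes -/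
def pcFive : List ℕ := [0, 1, 3]

/-- their paths -/
def pathsFive : List (List (ℕ × ℕ × ℕ) × ℕ) := [
  ([(34944, 0, 777)], 34944),
  ([(34944, 1, 777)], 34944),
  ([], 34944),
  ([(18192, 1, 45), (45830, 0, 777)], 34944),
  ([(23681, 0, 208)], 53486),
  ([(17983, 1, 237)], 26461),
  ([(21724, 0, 237)], 11230)]

/-- a fused element moved by the first involution -/
def partnerFive : ℕ := 34948

/-- the second involution -/
def secondW : ℕ := 35973

/-- conjugator of the transport -/
def shiftC : ℕ := 19987

end CfsgLib.HeUnique
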