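import Cfsg.Agent.Lib.HeUnique.Cert

/-!
Data for the stabiliser case.
-/

set_option autoImplicit false
set_option linter.style.longLine false

namespace CfsgLib.HeUnique

/-- paths between classes -/
def pathsStab : List (List (ℕ × ℕ × ℕ) × ℕ) := [
  ([(34944, 0, 777)], 34944),
  ([], 34944),
  ([], 34944),
  ([(23681, 0, 45)], 15913),
  ([(23681, 0, 208)], 53486),
  ([], 34944),
  ([(21724, 0, 237)], 11230)]

/-- for the second and third class: a fused partner, conjugator, two steps, image -/
def moveStab : List (ℕ × ℕ × ℕ × ℕ × ℕ) := [(34976, 44405, 777, 462, 35968), (34960, 34944, 777, 806, 44177)]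

/-- conjugator to the second class -/
def shiftStab : ℕ := 45964

end CfsgLib.HeUnique
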