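import Cfsg.Agent.Lib.HeUnique.End.Class
import Cfsg.Agent.Lib.HeUnique.End.Data

/-!
Finite checks about the centralizer of a four-group in the Held case.
-/

set_option autoImplicit false
set_option maxRecDepth 8000

namespace CfsgLib.HeUnique

/-- The first of the four-group. -/
def fu : ℕ := 34964
/-- The second of the four-group. -/
def fw : ℕ := 35973
/-- The third of the four-group. -/
def fuw : ℕ := 35985
/-- Exchanges the last two. -/
def fswap : ℕ := 34978
/-- The fused elements central in the common centralizer. -/
def fcen : List ℕ := [34945, 35968, 35989]
/-- A fused element of the common centralizer. -/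
def fy : ℕ := 34952
/-- Another one. -/
def fx : ℕ := 35008

/-- Fused, and with the pattern of the centre on the four-group. -/
def fullC (b : ℕ) : Bool :=
  invC b && isP pcHe b && !(isP pcHe (cmul b fu)) && isP pcHe (cmul b fw) && isP pcHe (cmul b fuw)

/-- The four-group. -/
def fvs : List ℕ := [one, fu, fw, fuw]

/-- Products of central fused elements with the four-group. -/
def zbC : List ℕ := fcen.flatMap fun q => fvs.map (cmul q)

/-- The common centralizer. -/
def inS (x : ℕ) : Bool := ok x && comC x fu && comC x fw

theorem four_pre : invC fu = true ∧ invC fw = true ∧ invC fuw = true ∧ cmul fu fw = fuw ∧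
    cmul fw fu = fuw ∧
    isP pcHe fu = false ∧ isP pcHe fw = false ∧ isP pcHe fuw = false ∧ fullC zc = true ∧
    ok fswap = true ∧ comC fswap fu = true ∧ conj fswap fw = fuw ∧
    fullC fy = true ∧ inS fy = true ∧ fullC fx = true ∧ inS fx = true ∧
    (fcen.all fun q => fullC q && inS q) = true ∧ 35968 ∈ fcen ∧ fu = cAB := by
  decide +kernel

theorem four_frame : ((List.range 7).all fun r => pcHe.contains r ||
      isP pcHe (cmul zc (invReps.getD r 0)) || invReps.getD r 0 == fu) = true ∧
    invScan (fun b => bif comC b fu then
      isP pcHe b || isP pcHe (cmul fu b) || !(isP pcHe (cmul zc b)) ||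
        !(isP pcHe (cmul (cmul zc b) fu)) || b == fw || b == fuw else true) = true := by
  decide +kernel

theorem four_pure : invScan (fun b => bif inS b then
    isP pcHe b || isP pcHe (cmul b fu) || isP pcHe (cmul b fw) || isP pcHe (cmul b fuw) ||
      fvs.contains b else true) = true := by
  decide +kernel

theorem four_center : invScan (fun b => bif inS b && fullC b then
    fcen.contains b || (List.range 512).any (fun A => okA A && (List.range 128).any (fun l =>
      inS (A * 128 + l) && !(comC (A * 128 + l) b))) else true) = true := by
  decide +kernel

theorem four_group : CosetEnum.allUp (fun x => bif inS x then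
    cmul (cmul x x) (cmul x x) == one &&
      !([fu, fw, fuw].contains (cmul x x)) &&
      (fcen.all fun q => comC x q) else true) 16 0 = true := by
  decide +kernel

theorem four_final : CosetEnum.allUp (fun k => bif inS k then
    k == one || !(fullC (cmul k fy)) || zbC.contains (cmul (cmul fy k) fy) ||
      zbC.contains (cmul fx (conj k fx)) else true) 16 0 = true := by
  decide +kernel

theorem four_moved : (List.range 512).any (fun A => okA A && (List.range 128).any (fun l =>
    inS (A * 128 + l) && !(comC (A * 128 + l) fy))) = true ∧
    (List.range 512).any (fun A => okA A && (List.range 128).any (fun l =>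
    inS (A * 128 + l) && !(comC (A * 128 + l) fx))) = true := by
  decide +kernel

end CfsgLib.HeUnique
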