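import Cfsg.Agent.Lib.HeUnique.End.Steps
import Cfsg.Agent.Lib.HeUnique.End.FourDefs

/-!
The centralizer of the four-group lies inside, in the Held case.
-/

set_option autoImplicit false
set_option maxRecDepth 8000

namespace CfsgLib.HeUnique

variable {G : Type*} [Group G] {z : G} {ι : ℕ → G} {G0 : Subgroup G}

/-- The centralizer of the four-group. -/
def vCent (ι : ℕ → G) : Subgroup G := Subgroup.centralizer ({ι fu, ι fw} : Set G)

/-- Fused with the pattern of the centre. -/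
def Full (z : G) (ι : ℕ → G) (x : G) : Prop :=
  IsConj z x ∧ ¬ IsConj z (x * ι fu) ∧ IsConj z (x * ι fw) ∧ IsConj z (x * ι fuw)

theorem mem_vCent {g : G} : g ∈ vCent ι ↔ g * ι fu = ι fu * g ∧ g * ι fw = ι fw * g := by
  rw [vCent, Subgroup.mem_centralizer_iff]
  constructor
  · intro h; exact ⟨(h _ (Or.inl rfl)).symm, (h _ (Or.inr rfl)).symm⟩
  · rintro ⟨h1, h2⟩ x (rfl | rfl)
    exacts [h1.symm, h2.symm]

theorem okV : ok fu = true ∧ ok fw = true ∧ ok fuw = true :=
  ⟨invC_ok four_pre.1, invC_ok four_pre.2.1, invC_ok four_pre.2.2.1⟩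

theorem uw_eq (R : Rep z ι) : ι fuw = ι fu * ι fw ∧ ι fuw = ι fw * ι fu := by
  obtain ⟨-, -, -, e1, e2, -⟩ := four_pre
  exact ⟨by rw [← e1, R.hmul _ _ okV.1 okV.2.1], by rw [← e2, R.hmul _ _ okV.2.1 okV.1]⟩

theorem comm_uw (R : Rep z ι) {g : G} (hg : g ∈ vCent ι) : g * ι fuw = ι fuw * g := by
  obtain ⟨h1, h2⟩ := mem_vCent.mp hg
  rw [(uw_eq R).1, ← mul_assoc, h1, mul_assoc, h2, ← mul_assoc]

theorem zmem_vCent (R : Rep z ι) : z ∈ vCent ι :=
  mem_vCent.mpr ⟨(R.comm okV.1).symm, (R.comm okV.2.1).symm⟩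

theorem full_conj_iff (R : Rep z ι) {g x : G} (hg : g ∈ vCent ι) :
    Full z ι (g * x * g⁻¹) ↔ Full z ι x := by
  have key : ∀ {v : G}, g * v = v * g → (IsConj z (g * x * g⁻¹ * v) ↔ IsConj z (x * v)) := by
    intro v hv
    rw [show g * x * g⁻¹ * v = g * (x * v) * g⁻¹ by
      calc g * x * g⁻¹ * v = g * x * (g⁻¹ * (v * g)) * g⁻¹ := by group
        _ = _ := by rw [← hv]; group]
    exact isConj_conj_iff g
  unfold Full
  rw [isConj_conj_iff g, key (mem_vCent.mp hg).1, key (mem_vCent.mp hg).2, key (comm_uw R hg)]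

theorem inS_code (R : Rep z ι) {g : G} (hz : g * z = z * g) (hg : g ∈ vCent ι) :
    ∃ x, inS x = true ∧ ι x = g := by
  obtain ⟨x, ox, rfl⟩ := R.surj g hz
  refine ⟨x, ?_, rfl⟩
  obtain ⟨h1, h2⟩ := mem_vCent.mp hg
  simp only [inS, comC, ox, Bool.true_and, Bool.and_eq_true, beq_iff_eq]
  exact ⟨(R.commute_iff ox okV.1).mpr h1, (R.commute_iff ox okV.2.1).mpr h2⟩

theorem inS_ok {x : ℕ} (h : inS x = true) : ok x = true := by
  simp only [inS, Bool.and_eq_true] at h
  exact h.1.1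

theorem inS_mem (R : Rep z ι) {x : ℕ} (h : inS x = true) : ι x ∈ vCent ι := by
  simp only [inS, comC, Bool.and_eq_true, beq_iff_eq] at h
  exact mem_vCent.mpr ⟨(R.commute_iff h.1.1 okV.1).mp h.1.2, (R.commute_iff h.1.1 okV.2.1).mp h.2⟩

theorem group_scan {x : ℕ} (hx : inS x = true) : cmul (cmul x x) (cmul x x) = one ∧
    cmul x x ∉ [fu, fw, fuw] ∧ ∀ q ∈ fcen, cmul x q = cmul q x := by
  have h := CosetEnum.allUp_spec four_group x (Nat.zero_le _) (by
    have := ok_lt (inS_ok hx); norm_num; omega)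
  simp only [hx, cond_true, Bool.and_eq_true, beq_iff_eq, Bool.not_eq_true', List.all_eq_true, comC]
    at h
  refine ⟨h.1.1, fun hm => ?_, h.2⟩
  rw [List.contains_iff_mem.mpr hm] at h
  exact Bool.noConfusion h.1.2

theorem pow_four (R : Rep z ι) {g : G} (hz : g * z = z * g) (hg : g ∈ vCent ι) : g ^ 4 = 1 := by
  obtain ⟨x, hx, rfl⟩ := inS_code R hz hg
  have ox := inS_ok hx
  rw [← R.hone, ← (group_scan hx).1, R.hmul _ _ (ok_cmul ox ox) (ok_cmul ox ox), R.hmul _ _ ox ox]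
  simp [pow_succ, mul_assoc]

theorem Ctx.full_code (D : Ctx z ι G0 pcHe) (R : Rep z ι) {b : ℕ} (hb : invC b = true)
    (hbu : cmul b fu = cmul fu b) (hbw : cmul b fw = cmul fw b) (h : fullC b = true) :
    Full z ι (ι b) := by
  obtain ⟨hu, hw, huw, e1, e2, nu, nw, nuw, -⟩ := four_pre
  simp only [fullC, Bool.and_eq_true, Bool.not_eq_true'] at h
  obtain ⟨⟨⟨⟨-, h1⟩, h2⟩, h3⟩, h4⟩ := h
  have hbuw : cmul b fuw = cmul fuw b := by
    rw [R.commute_iff (invC_ok hb) okV.2.2]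
    exact comm_uw R (mem_vCent.mpr ⟨(R.commute_iff (invC_ok hb) okV.1).mp hbu,
      (R.commute_iff (invC_ok hb) okV.2.1).mp hbw⟩)
  have ne : ∀ {v : ℕ}, isP pcHe v = false → b ≠ v := fun {v} hv e => by
    rw [e, hv] at h1; exact Bool.noConfusion h1
  refine ⟨(D.P_iff R hb).mp h1, fun hh => ?_, (D.P_mul R hb hw hbw (ne nw)).mp h3,
    (D.P_mul R hb huw hbuw (ne nuw)).mp h4⟩
  rw [(D.P_mul R hb hu hbu (ne nu)).mpr hh] at h2
  exact Bool.noConfusion h2

theorem full_z (D : Ctx z ι G0 pcHe) (R : Rep z ι) : Full z ι z := by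
  have h := D.full_code R invC_zc (zc_comm okV.1).symm (zc_comm okV.2.1).symm
    four_pre.2.2.2.2.2.2.2.2.1
  rwa [R.z_eq] at h

theorem Ctx.code_full (D : Ctx z ι G0 pcHe) (R : Rep z ι) {b : ℕ} (hb : invC b = true)
    (hbu : cmul b fu = cmul fu b) (hbw : cmul b fw = cmul fw b) (h : Full z ι (ι b)) :
    fullC b = true := by
  obtain ⟨hu, hw, huw, e1, e2, nu, nw, nuw, -⟩ := four_pre
  have hbuw : cmul b fuw = cmul fuw b := by
    rw [R.commute_iff (invC_ok hb) okV.2.2]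
    exact comm_uw R (mem_vCent.mpr ⟨(R.commute_iff (invC_ok hb) okV.1).mp hbu,
      (R.commute_iff (invC_ok hb) okV.2.1).mp hbw⟩)
  obtain ⟨f1, f2, f3, f4⟩ := h
  have h1 := (D.P_iff R hb).mpr f1
  have ne : ∀ {v : ℕ}, isP pcHe v = false → b ≠ v := fun {v} hv e => by
    rw [e, hv] at h1; exact Bool.noConfusion h1
  simp only [fullC, hb, h1, (D.P_mul R hb hw hbw (ne nw)).mpr f3,
    (D.P_mul R hb huw hbuw (ne nuw)).mpr f4, Bool.true_and, Bool.and_true, Bool.not_eq_true']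
  rw [← Bool.not_eq_true, D.P_mul R hb hu hbu (ne nu)]
  exact f2

/-- Elements with the pattern of the centre are conjugate to it inside. -/
theorem frame (D : Ctx z ι G0 pcHe) (R : Rep z ι) {x : G} (hx : x ∈ G0) (hxM : x ∈ vCent ι)
    (hF : Full z ι x) : ∃ h ∈ G0, h ∈ vCent ι ∧ h * z * h⁻¹ = x := by
  obtain ⟨hu, hw, huw, e1, e2, nu, nw, nuw, -, os, cs, es, -⟩ := four_pre
  obtain ⟨hconj, hnu, hPw, hPuw⟩ := hF
  obtain ⟨g, hg⟩ := isConj_iff.mp hconj
  have hgG : g ∈ G0 := D.fix_z R g (by rwa [hg])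
  have move : ∀ {h v : G}, h * z * h⁻¹ = x → x * v = v * x → h⁻¹ * v * h * z = z * (h⁻¹ * v * h) := by
    intro h v hh hv
    subst hh
    calc h⁻¹ * v * h * z = h⁻¹ * (v * (h * z * h⁻¹)) * h := by group
      _ = h⁻¹ * (h * z * h⁻¹ * v) * h := by rw [hv]
      _ = _ := by group
  have sq : ∀ {h v : G}, v * v = 1 → h⁻¹ * v * h * (h⁻¹ * v * h) = 1 := fun {h v} hv => by
    calc h⁻¹ * v * h * (h⁻¹ * v * h) = h⁻¹ * (v * v) * h := by group
      _ = 1 := by rw [hv]; group
  have ne : ∀ {h v : G}, v ≠ 1 → h⁻¹ * v * h ≠ 1 := fun {h v} hv hh => hv (by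
    calc v = h * (h⁻¹ * v * h) * h⁻¹ := by group
      _ = 1 := by rw [hh]; group)
  have back : ∀ {h v : G}, IsConj z (h⁻¹ * v * h) → IsConj z v := fun {h v} hh => by
    simpa [mul_assoc] using (isConj_conj_iff (z := z) (x := h⁻¹ * v * h) h).mpr hh
  have toP : ∀ {h v : G}, IsConj z v → IsConj z (h⁻¹ * v * h) := fun {h v} hh => by
    simpa using (isConj_conj_iff (z := z) (x := v) h⁻¹).mpr hh
  obtain ⟨cu, cw⟩ := mem_vCent.mp hxM
  obtain ⟨a, ha, hae⟩ := R.code_of_invol (move hg cu) (sq (R.invol hu).1) (ne (R.invol hu).2)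
  have hnPu : ¬ IsConj z (ι fu) := (D.isP_iff R hu).2 nu
  have haz : a ≠ zc := fun e => hnPu (back (h := g) (by rw [← hae, e, R.z_eq]))
  obtain ⟨hr, c, oc, hc⟩ := cls_spec ha haz
  set r := cls a
  have orr := invReps_ok hr
  have hz1 : g * ι c * z * (g * ι c)⁻¹ = x := by
    calc g * ι c * z * (g * ι c)⁻¹ = g * (ι c * z) * (ι c)⁻¹ * g⁻¹ := by group
      _ = g * (z * ι c) * (ι c)⁻¹ * g⁻¹ := by rw [R.comm oc]
      _ = g * z * g⁻¹ := by group
      _ = x := hg
  set h1 := g * ι c with hh1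
  have hrep : ι (invReps.getD r 0) = h1⁻¹ * ι fu * h1 := by
    rw [hh1, mul_inv_rev]
    calc ι (invReps.getD r 0)
        = (ι c)⁻¹ * (ι c * ι (invReps.getD r 0) * (ι c)⁻¹) * ι c := by group
      _ = (ι c)⁻¹ * (g⁻¹ * ι fu * g) * ι c := by rw [← R.conj_eq oc orr, hc, hae]
      _ = _ := by group
  have hri : invC (invReps.getD r 0) = true := by
    have hall : ((List.range 7).all fun r => invC (invReps.getD r 0)) = true := by decide +kernel
    exact range_all hall hr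
  have hru : invReps.getD r 0 = fu := by
    have hs := range_all four_frame.1 hr
    simp only [Bool.or_eq_true, beq_iff_eq] at hs
    rcases hs with (h | h) | h
    · obtain ⟨k, -, hk⟩ := D.pos r hr h
      exact absurd (back (h := h1) (by rw [← hrep, ← hk]; exact isConj_iff.mpr ⟨k, rfl⟩)) hnPu
    · refine absurd ?_ hnu
      have hne : zc ≠ invReps.getD r 0 := fun e => hnPu (back (h := h1) (by rw [← hrep, ← e, R.z_eq]))
      have h' := (D.P_mul R invC_zc hri (zc_comm orr).symm hne).mp h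
      rw [R.z_eq, hrep, show z * (h1⁻¹ * ι fu * h1) = h1⁻¹ * (h1 * z * h1⁻¹ * ι fu) * h1 by group,
        hz1] at h'
      exact back h'
    · exact h
  rw [hru] at hrep
  obtain ⟨b, hb, hbe⟩ := R.code_of_invol (move hz1 cw) (sq (R.invol hw).1) (ne (R.invol hw).2)
  have ob := invC_ok hb
  have hbu : cmul b fu = cmul fu b := by
    have hwu : ι fw * ι fu = ι fu * ι fw := by rw [← (uw_eq R).2, (uw_eq R).1]
    rw [R.commute_iff ob okV.1, hbe, hrep]
    calc h1⁻¹ * ι fw * h1 * (h1⁻¹ * ι fu * h1) = h1⁻¹ * (ι fw * ι fu) * h1 := by group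
      _ = h1⁻¹ * (ι fu * ι fw) * h1 := by rw [hwu]
      _ = _ := by group
  have hbz : b ≠ zc := fun e => by
    have := (D.isP_iff R hw).2 nw
    exact this (back (h := h1) (by rw [← hbe, e, R.z_eq]))
  have p1 : isP pcHe b = false := by
    rw [← Bool.not_eq_true, D.P_iff R hb, hbe]
    exact fun hh => (D.isP_iff R hw).2 nw (back hh)
  have hbf : b ≠ fu := fun e => by
    have h0 : ι fw = ι fu := by
      calc ι fw = h1 * (h1⁻¹ * ι fw * h1) * h1⁻¹ := by group
        _ = h1 * (h1⁻¹ * ι fu * h1) * h1⁻¹ := by rw [← hbe, e, ← hrep]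
        _ = ι fu := by group
    exact absurd (R.inj _ _ okV.2.1 okV.1 h0) (by decide)
  have p2 : isP pcHe (cmul fu b) = false := by
    rw [← Bool.not_eq_true, D.P_mul R hu hb hbu.symm hbf.symm, hrep, hbe,
      show h1⁻¹ * ι fu * h1 * (h1⁻¹ * ι fw * h1) = h1⁻¹ * (ι fu * ι fw) * h1 by group, ← (uw_eq R).1]
    exact fun hh => (D.isP_iff R huw).2 nuw (back hh)
  have p3 : isP pcHe (cmul zc b) = true := by
    rw [D.P_mul R invC_zc hb (zc_comm ob).symm hbz.symm, R.z_eq, hbe,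
      show z * (h1⁻¹ * ι fw * h1) = h1⁻¹ * (h1 * z * h1⁻¹ * ι fw) * h1 by group, hz1]
    exact toP hPw
  have p4 : isP pcHe (cmul (cmul zc b) fu) = true := by
    have hzb := invC_mul invC_zc hb (zc_comm ob).symm hbz.symm
    have hcm : cmul (cmul zc b) fu = cmul fu (cmul zc b) := by
      rw [cmul_assoc ok_zc ob okV.1, hbu, ← cmul_assoc ok_zc okV.1 ob, ← zc_comm okV.1,
        cmul_assoc okV.1 ok_zc ob]
    rw [D.P_mul R hzb hu hcm (fun e => ?_), R.hmul _ _ ok_zc ob, R.z_eq, hbe, hrep,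
      show z * (h1⁻¹ * ι fw * h1) * (h1⁻¹ * ι fu * h1) =
        h1⁻¹ * (h1 * z * h1⁻¹ * (ι fw * ι fu)) * h1 by group, hz1, ← (uw_eq R).2]
    · exact toP hPuw
    · rw [e, nu] at p3; exact Bool.noConfusion p3
  have cb := invScan_spec four_frame.2 hb
  simp only [comC, hbu, beq_self_eq_true, cond_true, p1, p2, p3, p4, Bool.false_or, Bool.not_true,
    Bool.or_eq_true, beq_iff_eq] at cb
  have h1G : h1 ∈ G0 := G0.mul_mem hgG (D.mem R oc)
  have h1u : h1 * ι fu = ι fu * h1 := by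
    nth_rewrite 1 [hrep]; group
  rcases cb with rfl | rfl
  · refine ⟨h1, h1G, mem_vCent.mpr ⟨h1u, ?_⟩, hz1⟩
    nth_rewrite 1 [hbe]; group
  · refine ⟨h1 * ι fswap, G0.mul_mem h1G (D.mem R os), mem_vCent.mpr ⟨?_, ?_⟩, ?_⟩
    · simp only [comC, beq_iff_eq] at cs
      have := (R.commute_iff os okV.1).mp cs
      rw [mul_assoc, this, ← mul_assoc, h1u, mul_assoc]
    · have e := R.conj_eq os okV.2.1
      rw [es] at e
      have h2 : h1 * ι fuw = ι fw * h1 := by nth_rewrite 1 [hbe]; group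
      calc h1 * ι fswap * ι fw = h1 * (ι fswap * ι fw * (ι fswap)⁻¹) * ι fswap := by group
        _ = _ := by rw [← e, h2]; group
    · calc h1 * ι fswap * z * (h1 * ι fswap)⁻¹ = h1 * (ι fswap * z) * (ι fswap)⁻¹ * h1⁻¹ := by group
        _ = h1 * (z * ι fswap) * (ι fswap)⁻¹ * h1⁻¹ := by rw [R.comm os]
        _ = h1 * z * h1⁻¹ := by group
        _ = x := hz1

variable [Finite G]

/-- Centralizers of conjugates containing the one of the centre are equal to it. -/
theorem cent_sub_eq {x h : G} (hh : h ∈ vCent ι) (hx : h * z * h⁻¹ = x)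
    (hsub : ∀ g ∈ vCent ι, g * z = z * g → g * x = x * g) :
    ∀ g ∈ vCent ι, g * x = x * g → g * z = z * g := by
  intro g hg hgx
  subst hx
  let S := {g : G // g ∈ vCent ι ∧ g * z = z * g}
  let f : S → S := fun s => ⟨h⁻¹ * s.1 * h,
    (vCent ι).mul_mem ((vCent ι).mul_mem ((vCent ι).inv_mem hh) s.2.1) hh, by
      have := hsub s.1 s.2.1 s.2.2
      calc h⁻¹ * s.1 * h * z = h⁻¹ * (s.1 * (h * z * h⁻¹)) * h := by group
        _ = h⁻¹ * (h * z * h⁻¹ * s.1) * h := by rw [this]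
        _ = _ := by group⟩
  have hf : Function.Injective f := fun a b e => Subtype.ext (by
    have := congrArg Subtype.val e
    simp only [f] at this
    exact mul_left_cancel (mul_right_cancel this))
  obtain ⟨s, hs⟩ := Finite.surjective_of_injective hf ⟨h⁻¹ * g * h,
    (vCent ι).mul_mem ((vCent ι).mul_mem ((vCent ι).inv_mem hh) hg) hh, by
      calc h⁻¹ * g * h * z = h⁻¹ * (g * (h * z * h⁻¹)) * h := by group
        _ = h⁻¹ * (h * z * h⁻¹ * g) * h := by rw [hgx]
        _ = _ := by group⟩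
  have := congrArg Subtype.val hs
  simp only [f] at this
  rw [← mul_left_cancel (mul_right_cancel this)]
  exact s.2.2

theorem cen_spec (D : Ctx z ι G0 pcHe) (R : Rep z ι) {q : ℕ} (hq : q ∈ fcen) :
    ι q ∈ vCent ι ∧ Full z ι (ι q) ∧
      ∀ g ∈ vCent ι, g * ι q = ι q * g ↔ g * z = z * g := by
  obtain ⟨-, -, -, -, -, -, -, -, -, -, -, -, -, -, -, -, hall, -⟩ := four_pre
  have h := mem_all hall hq
  simp only [Bool.and_eq_true] at h
  have oq := inS_ok h.2
  have hm := inS_mem R h.2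
  have hi : invC q = true := by
    have := h.1; simp only [fullC, Bool.and_eq_true] at this; exact this.1.1.1.1
  have hF := D.full_code R hi ((R.commute_iff oq okV.1).mpr (mem_vCent.mp hm).1)
    ((R.commute_iff oq okV.2.1).mpr (mem_vCent.mp hm).2) h.1
  have hsub : ∀ g ∈ vCent ι, g * z = z * g → g * ι q = ι q * g := fun g hg hz => by
    obtain ⟨x, hx, rfl⟩ := inS_code R hz hg
    exact (R.commute_iff (inS_ok hx) oq).mp ((group_scan hx).2.2 q hq)
  obtain ⟨k, -, hkM, hk⟩ := frame D R (D.mem R oq) hm hF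
  exact ⟨hm, hF, fun g hg => ⟨cent_sub_eq hkM hk hsub g hg, hsub g hg⟩⟩

theorem center_scan {b : ℕ} (hb : invC b = true) (hS : inS b = true) (hF : fullC b = true)
    (h : ∀ x, inS x = true → cmul x b = cmul b x) : b ∈ fcen := by
  have hs := invScan_spec four_center hb
  simp only [hS, hF, Bool.and_self, cond_true, Bool.or_eq_true, List.contains_iff_mem,
    List.any_eq_true, List.mem_range, Bool.and_eq_true, Bool.not_eq_true', comC,
    beq_eq_false_iff_ne] at hs
  rcases hs with h' | ⟨A, -, -, l, -, hx, hne⟩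
  · exact h'
  · exact absurd (h _ hx) hne

/-- A two-element normalising the common centralizer of the centre lies in it. -/
theorem norm_cent (D : Ctx z ι G0 pcHe) (R : Rep z ι) {n : G} (hn : n ∈ G0) (hnM : n ∈ vCent ι)
    {k : ℕ} (hk : n ^ (2 ^ k) = 1)
    (hnorm : ∀ g ∈ vCent ι, (g * z = z * g ↔ n * g * n⁻¹ * z = z * (n * g * n⁻¹))) :
    n * z = z * n := by
  have key : ∀ q ∈ fcen, ∃ q' ∈ fcen, n * ι q * n⁻¹ = ι q' := by
    intro q hq
    obtain ⟨hm, hF, hc⟩ := cen_spec D R hq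
    have hyM : n * ι q * n⁻¹ ∈ vCent ι :=
      (vCent ι).mul_mem ((vCent ι).mul_mem hnM hm) ((vCent ι).inv_mem hnM)
    have hyz : n * ι q * n⁻¹ * z = z * (n * ι q * n⁻¹) := by
      refine (hnorm _ hm).mp (R.comm ?_)
      have h0 := mem_all four_pre.2.2.2.2.2.2.2.2.2.2.2.2.2.2.2.2.1 hq
      simp only [Bool.and_eq_true] at h0
      exact inS_ok h0.2
    obtain ⟨b, hb, hbe⟩ := inS_code R hyz hyM
    have ob := inS_ok hb
    have hF' : Full z ι (ι b) := by rw [hbe]; exact (full_conj_iff R hnM).mpr hF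
    have hbi : invC b = true := by
      obtain ⟨g, hg⟩ := isConj_iff.mp hF'.1
      simp only [invC, ob, Bool.true_and, Bool.and_eq_true, beq_iff_eq, Bool.not_eq_true',
        beq_eq_false_iff_ne]
      refine ⟨R.inj _ _ (ok_cmul ob ob) ok_one ?_, fun e => ?_⟩
      · rw [R.hmul _ _ ob ob, R.hone, ← hg]
        calc g * z * g⁻¹ * (g * z * g⁻¹) = g * (z * z) * g⁻¹ := by group
          _ = 1 := by rw [z_sq R]; group
      · have := hF'.1
        rw [e, R.hone] at this
        exact not_isConj_one R this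
    obtain ⟨bu, bw⟩ := mem_vCent.mp (inS_mem R hb)
    refine ⟨b, center_scan hbi hb (D.code_full R hbi ((R.commute_iff ob okV.1).mpr bu)
      ((R.commute_iff ob okV.2.1).mpr bw) hF') (fun x hx => ?_), hbe.symm⟩
    have ox := inS_ok hx
    rw [R.commute_iff ox ob, hbe]
    have hxM := inS_mem R hx
    have hgM : n⁻¹ * ι x * n ∈ vCent ι :=
      (vCent ι).mul_mem ((vCent ι).mul_mem ((vCent ι).inv_mem hnM) hxM) hnM
    have hgz : n⁻¹ * ι x * n * z = z * (n⁻¹ * ι x * n) := by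
      refine (hnorm _ hgM).mpr ?_
      rw [show n * (n⁻¹ * ι x * n) * n⁻¹ = ι x by group]
      exact R.comm ox
    have hgq := (hc _ hgM).mpr hgz
    calc ι x * (n * ι q * n⁻¹) = n * (n⁻¹ * ι x * n * ι q) * n⁻¹ := by group
      _ = n * (ι q * (n⁻¹ * ι x * n)) * n⁻¹ := by rw [hgq]
      _ = _ := by group
  have fixed : ∀ q ∈ fcen, n * ι q * n⁻¹ = ι q → n * z = z * n := fun q hq e =>
    ((cen_spec D R hq).2.2 n hnM).mp (by nth_rewrite 2 [← e]; group)
  have cube : n * (n * (n * z * n⁻¹) * n⁻¹) * n⁻¹ = z → n * z = z * n := fun e => by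
    have h3 : Commute (n ^ 3) z := by
      show n ^ 3 * z = z * n ^ 3
      nth_rewrite 2 [← e]
      simp [pow_succ, mul_assoc]
    set j := 2 ^ k / 3
    have hj : (n ^ 3) ^ j * n ^ (2 ^ k % 3) = 1 := by
      rw [← pow_mul, ← pow_add, Nat.div_add_mod, hk]
    have hr : 2 ^ k % 3 = 1 ∨ 2 ^ k % 3 = 2 := by
      have : ¬ 3 ∣ 2 ^ k := fun hd => by
        have := Nat.Prime.dvd_of_dvd_pow (by norm_num) hd
        norm_num at this
      omega
    rcases hr with hr | hr <;> rw [hr] at hj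
    · rw [pow_one, mul_eq_one_iff_eq_inv'] at hj
      rw [hj]
      exact ((h3.pow_left j).inv_left).eq
    · have h2 : n ^ 2 = ((n ^ 3) ^ j)⁻¹ := mul_eq_one_iff_eq_inv'.mp hj
      have h1 : n = n ^ 3 * (n ^ 3) ^ j := by
        calc n = n ^ 3 * (n ^ 2)⁻¹ := by rw [pow_succ n 2, pow_two]; group
          _ = _ := by rw [h2, inv_inv]
      rw [h1]
      exact (h3.mul_left (h3.pow_left j)).eq
  have hl : fcen = [zc, 35968, 35989] := rfl
  have h0 : zc ∈ fcen := by rw [hl]; simp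
  obtain ⟨q1, m1, e1⟩ := key zc h0
  rw [R.z_eq] at e1
  by_cases hz1 : q1 = zc
  · exact fixed zc h0 (by rw [R.z_eq, e1, hz1, R.z_eq])
  obtain ⟨q2, m2, e2⟩ := key q1 m1
  have okq : ∀ q ∈ fcen, ok q = true := fun q hq => by
    have h1 := mem_all four_pre.2.2.2.2.2.2.2.2.2.2.2.2.2.2.2.2.1 hq
    simp only [Bool.and_eq_true] at h1
    exact inS_ok h1.2
  have hinj : ∀ {q q' r : ℕ}, q ∈ fcen → q' ∈ fcen → n * ι q * n⁻¹ = ι r → n * ι q' * n⁻¹ = ι r →
      q = q' := fun hq hq' h1 h2 =>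
    R.inj _ _ (okq _ hq) (okq _ hq') (mul_left_cancel (mul_right_cancel (h1.trans h2.symm)))
  by_cases h21 : q2 = q1
  · exact fixed q1 m1 (by rw [e2, h21])
  obtain ⟨q3, m3, e3⟩ := key q2 m2
  have e1' : n * ι zc * n⁻¹ = ι q1 := by rw [R.z_eq]; exact e1
  by_cases h2z : q2 = zc
  · -- the remaining one is fixed
    obtain ⟨r, hr, hr1, hr2⟩ : ∃ r ∈ fcen, r ≠ zc ∧ r ≠ q1 := by
      rw [hl] at m1 ⊢
      simp only [List.mem_cons, List.not_mem_nil, or_false] at m1
      rcases m1 with rfl | rfl | rfl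
      · exact absurd rfl hz1
      · exact ⟨35989, by simp, by decide, by decide⟩
      · exact ⟨35968, by simp, by decide, by decide⟩
    obtain ⟨r', mr, er⟩ := key r hr
    refine fixed r hr (er.trans ?_)
    have d1 : r' ≠ q1 := fun e => hr1 (hinj hr h0 er (e ▸ e1'))
    have d2 : r' ≠ zc := fun e => hr2 (hinj hr m1 er (e ▸ h2z ▸ e2))
    have : r' = r := by
      rw [hl] at m1 mr hr
      simp only [List.mem_cons, List.not_mem_nil, or_false] at m1 mr hr
      rcases m1 with rfl | rfl | rfl <;> rcases mr with rfl | rfl | rfl <;>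
        rcases hr with rfl | rfl | rfl <;>
        first | rfl | exact absurd rfl hr1 | exact absurd rfl hr2 | exact absurd rfl d1 |
          exact absurd rfl d2 | exact absurd rfl hz1
    rw [this]
  · refine cube ?_
    have d3 : q3 = zc := by
      have d1 : q3 ≠ q1 := fun e => h2z (hinj m2 h0 e3 (e ▸ e1'))
      have d2 : q3 ≠ q2 := fun e => h21 (hinj m2 m1 e3 (e ▸ e2))
      rw [hl] at m1 m2 m3
      simp only [List.mem_cons, List.not_mem_nil, or_false] at m1 m2 m3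
      rcases m1 with rfl | rfl | rfl <;> rcases m2 with rfl | rfl | rfl <;>
        rcases m3 with rfl | rfl | rfl <;>
        first | rfl | exact absurd rfl hz1 | exact absurd rfl h21 | exact absurd rfl h2z |
          exact absurd rfl d1 | exact absurd rfl d2
    rw [e1, e2, e3, d3, R.z_eq]


end CfsgLib.HeUnique
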