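import Cfsg.Agent.Lib.HeUnique.End.FourGroup

/-!
Counting conjugates of the centre in cosets gives an abelian transitive subgroup of odd order,
which is impossible.
-/

set_option autoImplicit false
set_option maxRecDepth 8000

namespace CfsgLib.HeUnique

variable {G : Type*} [Group G] [Finite G] {z : G} {ι : ℕ → G} {G0 : Subgroup G}

/-- A two-element inside is conjugate into the centralizer of the centre. -/
theorem two_conj (D : Ctx z ι G0 pcHe) (R : Rep z ι) {f : G} (hf : f ∈ G0) (hfM : f ∈ vCent ι)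
    {k : ℕ} (hk : f ^ (2 ^ k) = 1) :
    ∃ h ∈ G0, h ∈ vCent ι ∧ (h⁻¹ * f * h) * z = z * (h⁻¹ * f * h) := by
  haveI : Fact (Nat.Prime 2) := ⟨Nat.prime_two⟩
  set Hs := G0 ⊓ vCent ι with hHs
  set T := (Subgroup.centralizer ({z} : Set G)).subgroupOf Hs
  have hT : ∀ g : Hs, g ∈ T ↔ (g : G) * z = z * (g : G) := fun g => by
    rw [Subgroup.mem_subgroupOf, Subgroup.mem_centralizer_singleton_iff]
  have hTp : IsPGroup 2 T := fun g => ⟨2, Subtype.ext (Subtype.ext (by
    simpa using pow_four R ((hT g.1).mp g.2) g.1.2.2))⟩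
  obtain ⟨P, hP⟩ := hTp.exists_le_sylow
  have hPT : (P : Subgroup Hs) ≤ T := by
    by_contra hne
    haveI : Group.IsNilpotent (P : Subgroup Hs) := P.2.isNilpotent
    set T' := T.subgroupOf (P : Subgroup Hs)
    have hlt : T' < ⊤ := lt_top_iff_ne_top.mpr fun e =>
      hne (Subgroup.subgroupOf_eq_top.mp e)
    obtain ⟨n, hn, hnT⟩ := SetLike.exists_of_lt (Group.normalizerCondition_of_isNilpotent T' hlt)
    apply hnT
    obtain ⟨j, hj⟩ := P.2 n
    rw [Subgroup.mem_subgroupOf, hT]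
    refine norm_cent D R n.1.2.1 n.1.2.2 (k := j) ?_ (fun g hg => ?_)
    · have := congrArg (fun x : (P : Subgroup Hs) => ((x : Hs) : G)) hj
      simpa using this
    have hn' := Subgroup.mem_normalizer_iff.mp hn
    constructor
    · intro hz
      have hgH : g ∈ Hs := ⟨D.cent g hz, hg⟩
      have hgP : (⟨g, hgH⟩ : Hs) ∈ (P : Subgroup Hs) := hP ((hT _).mpr hz)
      have := (hn' ⟨⟨g, hgH⟩, hgP⟩).mp (by rw [Subgroup.mem_subgroupOf, hT]; exact hz)
      rw [Subgroup.mem_subgroupOf, hT] at this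
      simpa using this
    · intro hz
      set g' := (n.1.1 : G) * g * (n.1.1 : G)⁻¹
      have hg' : g' ∈ vCent ι :=
        (vCent ι).mul_mem ((vCent ι).mul_mem n.1.2.2 hg) ((vCent ι).inv_mem n.1.2.2)
      have hgH : g' ∈ Hs := ⟨D.cent g' hz, hg'⟩
      have hgP : (⟨g', hgH⟩ : Hs) ∈ (P : Subgroup Hs) := hP ((hT _).mpr hz)
      have := (hn' (n⁻¹ * ⟨⟨g', hgH⟩, hgP⟩ * n)).mpr (by
        rw [Subgroup.mem_subgroupOf, hT]
        simpa [mul_assoc] using hz)
      rw [Subgroup.mem_subgroupOf, hT] at this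
      simpa [g', mul_assoc] using this
  set f' : Hs := ⟨f, hf, hfM⟩
  have hpf : IsPGroup 2 (Subgroup.zpowers f') := by
    rintro ⟨g, e, rfl⟩
    refine ⟨k, Subtype.ext ?_⟩
    show (f' ^ e) ^ (2 ^ k) = 1
    rw [← zpow_natCast, ← zpow_mul, mul_comm, zpow_mul, zpow_natCast,
      show f' ^ (2 ^ k) = 1 from Subtype.ext (by simpa [f'] using hk), one_zpow]
  obtain ⟨Q, hQ⟩ := hpf.exists_le_sylow
  obtain ⟨a, ha⟩ := MulAction.exists_smul_eq Hs P Q
  have hf' : f' ∈ (Q : Subgroup Hs) := hQ (Subgroup.mem_zpowers f')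
  rw [← ha, Sylow.coe_subgroup_smul, Subgroup.mem_pointwise_smul_iff_inv_smul_mem] at hf'
  have hc := (hT _).mp (hPT hf')
  simp only [MulAut.smul_def, MulAut.inv_def, MulAut.conj_symm_apply, Subgroup.coe_mul,
    Subgroup.coe_inv, f'] at hc
  exact ⟨a, a.2.1, a.2.2, hc⟩

theorem conj_fix_V (R : Rep z ι) {h x : G} (hh : h ∈ vCent ι)
    (hx : h⁻¹ * x * h ∈ [ι fu, ι fw, ι fuw]) : x = h⁻¹ * x * h := by
  have hc : h * (h⁻¹ * x * h) = (h⁻¹ * x * h) * h := by
    obtain ⟨h1, h2⟩ := mem_vCent.mp hh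
    simp only [List.mem_cons, List.not_mem_nil, or_false] at hx
    rcases hx with e | e | e <;> rw [e]
    exacts [h1, h2, comm_uw R hh]
  calc x = h * (h⁻¹ * x * h) * h⁻¹ := by group
    _ = h⁻¹ * x * h := by rw [hc]; group

/-- Squares of two-elements avoid the four-group. -/
theorem no_root (D : Ctx z ι G0 pcHe) (R : Rep z ι) {f : G} (hf : f ∈ G0) (hfM : f ∈ vCent ι)
    (h2 : f * f ∈ [ι fu, ι fw, ι fuw]) : False := by
  have hinv : ∀ v ∈ [fu, fw, fuw], invC v = true := by decide +kernel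
  have h4 : f ^ (2 ^ 2) = 1 := by
    have : (f * f) * (f * f) = 1 := by
      simp only [List.mem_cons, List.not_mem_nil, or_false] at h2
      rcases h2 with e | e | e <;> rw [e]
      exacts [(R.invol (hinv _ (by simp))).1, (R.invol (hinv _ (by simp))).1,
        (R.invol (hinv _ (by simp))).1]
    rw [show (2 : ℕ) ^ 2 = 4 from rfl]
    simpa [pow_succ, mul_assoc] using this
  obtain ⟨h, hG, hM, hz⟩ := two_conj D R hf hfM h4
  have hmem : h⁻¹ * f * h ∈ vCent ι :=
    (vCent ι).mul_mem ((vCent ι).mul_mem ((vCent ι).inv_mem hM) hfM) hM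
  obtain ⟨x, hx, he⟩ := inS_code R hz hmem
  have ox := inS_ok hx
  have hsq : ι (cmul x x) = f * f := by
    rw [R.hmul _ _ ox ox, he]
    have e : f * f = h⁻¹ * (f * f) * h := by
      have hc : ∀ v ∈ [ι fu, ι fw, ι fuw], h * v = v * h := by
        intro v hv
        simp only [List.mem_cons, List.not_mem_nil, or_false] at hv
        rcases hv with rfl | rfl | rfl
        exacts [(mem_vCent.mp hM).1, (mem_vCent.mp hM).2, comm_uw R hM]
      rw [mul_assoc h⁻¹, ← hc _ h2]; group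
    rw [e]; group
  refine (group_scan hx).2.1 ?_
  simp only [List.mem_cons, List.not_mem_nil, or_false] at h2 ⊢
  rcases h2 with e | e | e <;> rw [e] at hsq
  exacts [Or.inl (R.inj _ _ (ok_cmul ox ox) okV.1 hsq),
    Or.inr (Or.inl (R.inj _ _ (ok_cmul ox ox) okV.2.1 hsq)),
    Or.inr (Or.inr (R.inj _ _ (ok_cmul ox ox) okV.2.2 hsq))]

/-- An involution inside either lies in the four-group or has a fused translate. -/
theorem invol_cases (D : Ctx z ι G0 pcHe) (R : Rep z ι) {d : G} (hd : d ∈ G0) (hdM : d ∈ vCent ι)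
    (d1 : d ≠ 1) (d2 : d * d = 1) :
    d ∈ [ι fu, ι fw, ι fuw] ∨ ∃ v ∈ [1, ι fu, ι fw, ι fuw], IsConj z (d * v) := by
  obtain ⟨h, hG, hM, hz⟩ := two_conj D R hd hdM (k := 1) (by rw [pow_one, pow_two]; exact d2)
  have hmem : h⁻¹ * d * h ∈ vCent ι :=
    (vCent ι).mul_mem ((vCent ι).mul_mem ((vCent ι).inv_mem hM) hdM) hM
  obtain ⟨b, hb, hbe⟩ := R.code_of_invol hz (by
      calc h⁻¹ * d * h * (h⁻¹ * d * h) = h⁻¹ * (d * d) * h := by group
        _ = 1 := by rw [d2]; group) (fun e => d1 (by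
      calc d = h * (h⁻¹ * d * h) * h⁻¹ := by group
        _ = 1 := by rw [e]; group))
  have ob := invC_ok hb
  obtain ⟨bu, bw⟩ := mem_vCent.mp (show ι b ∈ vCent ι by rw [hbe]; exact hmem)
  have cu := (R.commute_iff ob okV.1).mpr bu
  have cw := (R.commute_iff ob okV.2.1).mpr bw
  have hS : inS b = true := by
    simp only [inS, comC, ob, cu, cw, beq_self_eq_true, Bool.and_self]
  have cs := invScan_spec four_pure hb
  simp only [hS, cond_true, Bool.or_eq_true, List.contains_iff_mem] at cs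
  have back : ∀ {v : G}, h * v = v * h → IsConj z (ι b * v) → IsConj z (d * v) := by
    intro v hv hP
    have e : d * v = h * (ι b * v) * h⁻¹ := by
      rw [hbe]
      calc d * v = h * (h⁻¹ * d * h) * (h⁻¹ * v) := by group
        _ = h * (h⁻¹ * d * h) * (h⁻¹ * (v * h) * h⁻¹) := by group
        _ = _ := by rw [← hv]; group
    rw [e]; exact (isConj_conj_iff h).mpr hP
  have inV : ∀ {v : ℕ}, v ∈ [fu, fw, fuw] → b = v → d ∈ [ι fu, ι fw, ι fuw] := by
    intro v hv e
    have hm : h⁻¹ * d * h ∈ [ι fu, ι fw, ι fuw] := by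
      rw [← hbe, e]; exact List.mem_map_of_mem (f := ι) hv
    rw [conj_fix_V R hM hm]; exact hm
  obtain ⟨hu, hw, huw, -, -, nu, nw, nuw, -⟩ := four_pre
  have cuw : cmul b fuw = cmul fuw b := (R.commute_iff ob okV.2.2).mpr
    (comm_uw R (show ι b ∈ vCent ι from mem_vCent.mpr ⟨bu, bw⟩))
  have viaP : ∀ {v : ℕ}, invC v = true → v ∈ [fu, fw, fuw] → cmul b v = cmul v b →
      isP pcHe (cmul b v) = true → h * ι v = ι v * h →
      d ∈ [ι fu, ι fw, ι fuw] ∨ ∃ v ∈ [1, ι fu, ι fw, ι fuw], IsConj z (d * v) := by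
    intro v hv hm hc hP hh
    by_cases e : b = v
    · exact Or.inl (inV hm e)
    · exact Or.inr ⟨ι v, List.mem_cons_of_mem _ (List.mem_map_of_mem (f := ι) hm),
        back hh ((D.P_mul R hb hv hc e).mp hP)⟩
  rcases cs with (((cs | cs) | cs) | cs) | cs
  · exact Or.inr ⟨1, by simp, back (by simp) (by simpa using (D.P_iff R hb).mp cs)⟩
  · exact viaP hu (by simp) cu cs (mem_vCent.mp hM).1
  · exact viaP hw (by simp) cw cs (mem_vCent.mp hM).2
  · exact viaP huw (by simp) cuw cs (comm_uw R hM)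
  · simp only [fvs, List.mem_cons, List.not_mem_nil, or_false] at cs
    rcases cs with rfl | rfl | rfl | rfl
    · exact absurd hb (by decide +kernel)
    exacts [Or.inl (inV (v := fu) (by simp) rfl), Or.inl (inV (v := fw) (by simp) rfl),
      Or.inl (inV (v := fuw) (by simp) rfl)]

theorem translate_not_full (D : Ctx z ι G0 pcHe) (R : Rep z ι) {t v : G} (htM : t ∈ vCent ι)
    (ht : Full z ι t) (hv : v ∈ [ι fu, ι fw, ι fuw]) : ¬ Full z ι (t * v) := by
  obtain ⟨hu, hw, huw, -⟩ := four_pre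
  intro hF
  simp only [List.mem_cons, List.not_mem_nil, or_false] at hv
  rcases hv with rfl | rfl | rfl
  · exact ht.2.1 hF.1
  · refine hF.2.1 ?_
    rw [mul_assoc, ← (uw_eq R).2]; exact ht.2.2.2
  · refine hF.2.1 ?_
    rw [mul_assoc, (uw_eq R).2, mul_assoc, (R.invol hu).1, mul_one]; exact ht.2.2.1

/-- The conjugates of the centre in the centralizer of the four-group. -/
def orbI (z : G) (ι : ℕ → G) : Set G := {t | ∃ m ∈ vCent ι, m * z * m⁻¹ = t}

theorem orbI_spec (D : Ctx z ι G0 pcHe) (R : Rep z ι) {t : G} (ht : t ∈ orbI z ι) :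
    t ∈ vCent ι ∧ Full z ι t ∧ t * t = 1 := by
  obtain ⟨m, hm, rfl⟩ := ht
  refine ⟨(vCent ι).mul_mem ((vCent ι).mul_mem hm (zmem_vCent R)) ((vCent ι).inv_mem hm),
    (full_conj_iff R hm).mpr (full_z D R), ?_⟩
  calc m * z * m⁻¹ * (m * z * m⁻¹) = m * (z * z) * m⁻¹ := by group
    _ = 1 := by rw [z_sq R]; group

theorem v_central (R : Rep z ι) {g v : G} (hg : g ∈ vCent ι) (hv : v ∈ [1, ι fu, ι fw, ι fuw]) :
    g * v = v * g := by
  simp only [List.mem_cons, List.not_mem_nil, or_false] at hv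
  rcases hv with rfl | rfl | rfl | rfl
  exacts [by simp, (mem_vCent.mp hg).1, (mem_vCent.mp hg).2, comm_uw R hg]

/-- An involution inside with conjugate by `t` inside lies in the four-group. -/
theorem invol_in_V (D : Ctx z ι G0 pcHe) (R : Rep z ι) {t x : G} (htM : t ∈ vCent ι) (ht2 : t * t = 1)
    (ht : t ∉ G0) (hx : x ∈ G0) (hxM : x ∈ vCent ι) (hxt : t * x * t ∈ G0) (x1 : x ≠ 1)
    (x2 : x * x = 1) : x ∈ [ι fu, ι fw, ι fuw] := by
  rcases invol_cases D R hx hxM x1 x2 with h | ⟨v, hv, hP⟩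
  · exact h
  have hti : t⁻¹ = t := inv_eq_of_mul_eq_one_right ht2
  have hvG : v ∈ G0 := by
    simp only [List.mem_cons, List.not_mem_nil, or_false] at hv
    rcases hv with rfl | rfl | rfl | rfl
    exacts [one_mem _, D.mem R okV.1, D.mem R okV.2.1, D.mem R okV.2.2]
  have hF := D.fix_of_isConj R (G0.mul_mem hx hvG) hP
  refine absurd (hF t ?_) ht
  rw [hti, show t * (x * v) * t = t * x * t * v by
    rw [mul_assoc (t * x), v_central R htM hv]; group]
  exact G0.mul_mem hxt hvG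

/-- Products of two conjugates of the centre inside have odd order. -/
theorem odd_of_pair (D : Ctx z ι G0 pcHe) (R : Rep z ι) {t t' : G} (ht : t ∈ orbI z ι)
    (ht' : t' ∈ orbI z ι) (htG : t ∉ G0) (hd : t * t' ∈ G0) : Odd (orderOf (t * t')) := by
  obtain ⟨htM, htF, ht2⟩ := orbI_spec D R ht
  obtain ⟨htM', htF', ht2'⟩ := orbI_spec D R ht'
  rcases dihedral_pair ht2 ht2' (vCent ι) htM htM' with ⟨h, -⟩ | ⟨w, hwM, hwp, w1, w2, hwt, -, hcase⟩
  · exact h
  exfalso
  have hwG : w ∈ G0 := Subgroup.zpowers_le.mpr hd hwp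
  have hti : t⁻¹ = t := inv_eq_of_mul_eq_one_right ht2
  have hwV := invol_in_V D R htM ht2 htG hwG hwM (by rw [mul_assoc, hwt, ← mul_assoc, ht2, one_mul]; exact hwG)
    w1 w2
  refine translate_not_full D R htM htF hwV ?_
  rcases hcase with ⟨⟨g, hg, e⟩, -⟩ | ⟨g, hg, e⟩
  · rw [← e]; exact (full_conj_iff R hg).mpr htF
  · rw [← e]; exact (full_conj_iff R hg).mpr htF'

/-- Two-elements of the intersection lie in the four-group. -/
theorem inter_two (D : Ctx z ι G0 pcHe) (R : Rep z ι) {t s : G} (htM : t ∈ vCent ι) (ht2 : t * t = 1)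
    (ht : t ∉ G0) (hs : s ∈ G0) (hsM : s ∈ vCent ι) (hst : t * s * t ∈ G0) (h4 : s ^ 4 = 1) :
    s ∈ [1, ι fu, ι fw, ι fuw] := by
  have hs2 : t * (s * s) * t ∈ G0 := by
    have : t * (s * s) * t = (t * s * t) * (t * s * t) := by
      calc t * (s * s) * t = t * s * (1 * s) * t := by group
        _ = t * s * (t * t * s) * t := by rw [ht2]
        _ = _ := by group
    rw [this]; exact G0.mul_mem hst hst
  have h22 : s * s * (s * s) = 1 := by rw [← h4]; simp [pow_succ, mul_assoc]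
  by_cases e : s * s = 1
  · by_cases e1 : s = 1
    · simp [e1]
    · exact List.mem_cons_of_mem _ (invol_in_V D R htM ht2 ht hs hsM hst e1 e)
  · exact (no_root D R hs hsM
      (invol_in_V D R htM ht2 ht (G0.mul_mem hs hs) ((vCent ι).mul_mem hsM hsM) hs2 e h22)).elim

theorem eq_one_of_sq {a v : G} (hc : Commute a v) (ha : Odd (orderOf a)) (hav : Odd (orderOf (a * v)))
    (hv : v * v = 1) : v = 1 := by
  have h1 : (a * v) ^ (orderOf a * orderOf (a * v)) = 1 := by
    rw [mul_comm, pow_mul, pow_orderOf_eq_one, one_pow]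
  have h2 : a ^ (orderOf a * orderOf (a * v)) = 1 := by rw [pow_mul, pow_orderOf_eq_one, one_pow]
  rw [hc.mul_pow, h2, one_mul] at h1
  obtain ⟨k, hk⟩ := ha.mul hav
  rw [hk, pow_succ, pow_mul, pow_two, hv, one_pow, one_mul] at h1
  exact h1

theorem v_sq (R : Rep z ι) {v : G} (hv : v ∈ [1, ι fu, ι fw, ι fuw]) : v * v = 1 := by
  obtain ⟨hu, hw, huw, -⟩ := four_pre
  simp only [List.mem_cons, List.not_mem_nil, or_false] at hv
  rcases hv with rfl | rfl | rfl | rfl
  exacts [one_mul 1, (R.invol hu).1, (R.invol hw).1, (R.invol huw).1]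

/-- Conjugation of the centre is injective on odd elements of the intersection. -/
theorem semireg (D : Ctx z ι G0 pcHe) (R : Rep z ι) {t a b : G} (htM : t ∈ vCent ι)
    (ht2 : t * t = 1) (ht : t ∉ G0) (ha : a ∈ G0) (haM : a ∈ vCent ι) (hat : t * a * t ∈ G0)
    (hb : b ∈ G0) (hbM : b ∈ vCent ι) (hbt : t * b * t ∈ G0)
    (he : a * z * a⁻¹ = b * z * b⁻¹) : ∃ v ∈ [1, ι fu, ι fw, ι fuw], b = a * v := by
  refine ⟨a⁻¹ * b, inter_two D R htM ht2 ht (G0.mul_mem (G0.inv_mem ha) hb)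
    ((vCent ι).mul_mem ((vCent ι).inv_mem haM) hbM) ?_ (pow_four R ?_ ?_), by group⟩
  · have hti : t⁻¹ = t := inv_eq_of_mul_eq_one_right ht2
    have : t * (a⁻¹ * b) * t = (t * a * t)⁻¹ * (t * b * t) := by
      rw [mul_inv_rev, mul_inv_rev, hti]
      calc t * (a⁻¹ * b) * t = t * a⁻¹ * (1 * b) * t := by group
        _ = t * a⁻¹ * (t * t * b) * t := by rw [ht2]
        _ = _ := by group
    rw [this]; exact G0.mul_mem (G0.inv_mem hat) hbt
  · calc a⁻¹ * b * z = a⁻¹ * (b * z * b⁻¹) * b := by group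
      _ = a⁻¹ * (a * z * a⁻¹) * b := by rw [he]
      _ = _ := by group
  · exact (vCent ι).mul_mem ((vCent ι).inv_mem haM) hbM

/-- A coset outside with as many conjugates of the centre as there are inside. -/
theorem exists_big_coset (D : Ctx z ι G0 pcHe) (R : Rep z ι) {m : G} (hm : m ∈ vCent ι)
    (hm0 : m ∉ G0) : ∃ F : Finset G, (∀ t ∈ F, t ∈ orbI z ι ∧ t ∉ G0) ∧
      (∀ t ∈ F, ∀ t' ∈ F, t * t' ∈ G0) ∧ {t | t ∈ orbI z ι ∧ t ∈ G0}.ncard ≤ F.card := by
  classical
  haveI := Fintype.ofFinite G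
  haveI : Fintype (G ⧸ G0) := Fintype.ofFinite _
  set IF := Finset.univ.filter fun t => t ∈ orbI z ι
  set I0 := IF.filter fun t => t ∈ G0
  set J := IF.filter fun t => t ∉ G0
  set Y := (Finset.univ.filter fun g => g ∈ vCent ι).image fun g : G => (g : G ⧸ G0)
  set Y' := Y.erase ((1 : G) : G ⧸ G0)
  have hrep : ∀ y ∈ Y, ∃ r ∈ vCent ι, (r : G ⧸ G0) = y := fun y hy => by
    obtain ⟨g, hg, e⟩ := Finset.mem_image.mp hy
    exact ⟨g, (Finset.mem_filter.mp hg).2, e⟩
  choose r hrM hre using hrep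
  have hI0 : I0.card = {t | t ∈ orbI z ι ∧ t ∈ G0}.ncard := by
    rw [Set.ncard_eq_toFinset_card']
    congr 1
    ext t
    simp [I0, IF]
  have hbig : Y.card * I0.card ≤ IF.card := by
    rw [← Finset.card_attach (s := Y), ← Finset.card_product]
    refine Finset.card_le_card_of_injOn (fun p => r p.1.1 p.1.2 * p.2 * (r p.1.1 p.1.2)⁻¹) ?_ ?_
    · intro p hp
      simp only [Finset.mem_coe, Finset.mem_product, Finset.mem_attach, true_and, I0, IF,
        Finset.mem_filter, Finset.mem_univ] at hp ⊢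
      obtain ⟨g, hg, e⟩ := hp.1
      exact ⟨r p.1.1 p.1.2 * g, (vCent ι).mul_mem (hrM _ _) hg, by rw [← e]; group⟩
    · intro p hp q hq e
      simp only [Finset.mem_coe, Finset.mem_product, Finset.mem_attach, true_and, I0, IF,
        Finset.mem_filter, Finset.mem_univ] at hp hq
      simp only at e
      have hF : Fix G0 p.2 := D.fix_of_isConj R hp.2 (orbI_spec D R hp.1).2.1.1
      have hg : (r q.1.1 q.1.2)⁻¹ * r p.1.1 p.1.2 ∈ G0 := hF _ (by
        rw [show (r q.1.1 q.1.2)⁻¹ * r p.1.1 p.1.2 * p.2 * ((r q.1.1 q.1.2)⁻¹ * r p.1.1 p.1.2)⁻¹ =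
          (r q.1.1 q.1.2)⁻¹ * (r p.1.1 p.1.2 * p.2 * (r p.1.1 p.1.2)⁻¹) * r q.1.1 q.1.2 by group, e]
        simpa [mul_assoc] using hq.2)
      have hy : (p.1 : G ⧸ G0) = q.1.1 := by
        rw [← hre p.1.1 p.1.2, ← hre q.1.1 q.1.2]
        exact (QuotientGroup.eq.mpr hg).symm
      have h1 : p.1 = q.1 := Subtype.ext hy
      refine Prod.ext h1 ?_
      rw [h1] at e
      exact mul_left_cancel (mul_right_cancel e)
  have hY1 : ((1 : G) : G ⧸ G0) ∈ Y :=
    Finset.mem_image.mpr ⟨1, by simp, rfl⟩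
  have hne : Y'.Nonempty := by
    refine ⟨(m : G ⧸ G0), Finset.mem_erase.mpr ⟨fun e => hm0 ?_,
      Finset.mem_image.mpr ⟨m, by simp [hm], rfl⟩⟩⟩
    have := QuotientGroup.eq.mp e
    simpa using this
  have hsum : I0.card + J.card = IF.card := Finset.card_filter_add_card_filter_not _
  have hYc : Y'.card + 1 = Y.card := Finset.card_erase_add_one hY1
  have hle : Y'.card * I0.card ≤ J.card := by
    rw [← hYc] at hbig
    rw [Nat.add_mul, one_mul] at hbig
    omega
  obtain ⟨y, -, hy⟩ := Finset.exists_le_card_fiber_of_mul_le_card_of_maps_to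
    (f := fun t : G => (t : G ⧸ G0)) (fun t ht => by
      simp only [J, IF, Finset.mem_filter, Finset.mem_univ, true_and] at ht
      exact Finset.mem_erase.mpr ⟨fun e => ht.2 (by simpa using QuotientGroup.eq.mp e),
        Finset.mem_image.mpr ⟨t, by simp [(orbI_spec D R ht.1).1], rfl⟩⟩) hne hle
  refine ⟨J.filter fun t => (t : G ⧸ G0) = y, fun t ht => ?_, fun t ht t' ht' => ?_, hI0 ▸ hy⟩
  · simp only [J, IF, Finset.mem_filter, Finset.mem_univ, true_and] at ht
    exact ht.1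
  · simp only [J, IF, Finset.mem_filter, Finset.mem_univ, true_and] at ht ht'
    have h := QuotientGroup.eq.mp (ht.2.trans ht'.2.symm)
    rwa [inv_eq_of_mul_eq_one_right (orbI_spec D R ht.1.1).2.2] at h

theorem odd_fix (R : Rep z ι) {d : G} (hd : Odd (orderOf d)) (hdM : d ∈ vCent ι)
    (hz : d * z = z * d) : d = 1 := by
  rw [← orderOf_eq_one_iff]
  have hcop : Nat.Coprime (orderOf d) (2 ^ 2) := (Nat.coprime_two_right.mpr hd).pow_right 2
  exact Nat.eq_one_of_dvd_coprimes hcop dvd_rfl (orderOf_dvd_of_pow_eq_one (pow_four R hz hdM))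

/-- Same centralizers. -/
def SameC (ι : ℕ → G) (x y : G) : Prop := ∀ g ∈ vCent ι, g * x = x * g ↔ g * y = y * g

theorem SameC.conj {x y h : G} (hh : h ∈ vCent ι) (e : SameC ι x y) :
    SameC ι (h * x * h⁻¹) (h * y * h⁻¹) := by
  intro g hg
  have hm : h⁻¹ * g * h ∈ vCent ι :=
    (vCent ι).mul_mem ((vCent ι).mul_mem ((vCent ι).inv_mem hh) hg) hh
  have key : ∀ x : G, g * (h * x * h⁻¹) = h * x * h⁻¹ * g ↔ h⁻¹ * g * h * x = x * (h⁻¹ * g * h) := by
    intro x
    constructor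
    · intro e
      calc h⁻¹ * g * h * x = h⁻¹ * (g * (h * x * h⁻¹)) * h := by group
        _ = _ := by rw [e]; group
    · intro e
      calc g * (h * x * h⁻¹) = h * (h⁻¹ * g * h * x) * h⁻¹ := by group
        _ = _ := by rw [e]; group
  rw [key, key]
  exact e _ hm

/-- Fused elements with equal centralizers do not have such a product. -/
theorem no_block (D : Ctx z ι G0 pcHe) (R : Rep z ι) {x : ℕ} (hx : inS x = true)
    (hF : Full z ι (ι x)) (hmove : ∃ s, inS s = true ∧ cmul s x ≠ cmul x s) {x' : G}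
    (he : SameC ι (ι x) x') {p : ℕ} (hp : p ∈ zbC) (hpe : ι x * x' = ι p) : False := by
  obtain ⟨s, hs, hne⟩ := hmove
  apply hne
  rw [R.commute_iff (inS_ok hs) (inS_ok hx)]
  obtain ⟨h, -, hhM, hhe⟩ := frame D R (D.mem R (inS_ok hx)) (inS_mem R hx) hF
  simp only [zbC, List.mem_flatMap, List.mem_map] at hp
  obtain ⟨q, hq, v, hv, rfl⟩ := hp
  have oq : ok q = true := by
    have h0 := mem_all four_pre.2.2.2.2.2.2.2.2.2.2.2.2.2.2.2.2.1 hq
    simp only [Bool.and_eq_true] at h0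
    exact inS_ok h0.2
  have ov : ok v = true := by
    have : ∀ v ∈ fvs, ok v = true := by decide +kernel
    exact this v hv
  have hvm : ι v ∈ [1, ι fu, ι fw, ι fuw] := by
    simp only [fvs, List.mem_cons, List.not_mem_nil, or_false] at hv
    rcases hv with rfl | rfl | rfl | rfl
    · simp [R.hone]
    all_goals simp
  have hsub : ∀ g ∈ vCent ι, g * ι x = ι x * g → g * z = z * g := by
    intro g hg hgx
    refine ((cen_spec D R hq).2.2 g hg).mp ?_
    have hgp : Commute g (ι x * x') := Commute.mul_right hgx ((he g hg).mp hgx)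
    rw [hpe, R.hmul _ _ oq ov] at hgp
    have := hgp.mul_right (Commute.inv_right (v_central R hg hvm))
    simp only [mul_inv_cancel_right] at this
    exact this.eq
  have hback : ∀ g ∈ vCent ι, g * z = z * g → g * ι x = ι x * g := by
    intro g hg hgz
    have h2 := cent_sub_eq (z := ι x) (x := z) (ι := ι) ((vCent ι).inv_mem hhM)
      (by rw [← hhe]; group) hsub
    exact h2 g hg hgz
  exact hback _ (inS_mem R hs) (R.comm (inS_ok hs))

/-- The centralizer of the four-group lies inside. -/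
theorem cent_four (D : Ctx z ι G0 pcHe) (R : Rep z ι) : ∀ g ∈ vCent ι, g ∈ G0 := by
  intro m hm
  by_contra hm0
  obtain ⟨F, hF1, hF2, hF3⟩ := exists_big_coset D R hm hm0
  set I0 := {t | t ∈ orbI z ι ∧ t ∈ G0}
  have hzI : z ∈ I0 := ⟨⟨1, one_mem _, by group⟩, D.zmem⟩
  have hFne : F.Nonempty := by
    rw [← Finset.card_pos]
    have : 0 < I0.ncard := (Set.ncard_pos (Set.toFinite _)).mpr ⟨z, hzI⟩
    omega
  obtain ⟨t, htF⟩ := hFne
  obtain ⟨htI, htG⟩ := hF1 t htF
  obtain ⟨htM, htFull, ht2⟩ := orbI_spec D R htI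
  have hti : t⁻¹ = t := inv_eq_of_mul_eq_one_right ht2
  have dspec : ∀ t' ∈ F, t * t' ∈ G0 ∧ t * t' ∈ vCent ι ∧ t * (t * t') * t = (t * t')⁻¹ ∧
      Odd (orderOf (t * t')) := by
    intro t' ht'
    obtain ⟨hI', -⟩ := hF1 t' ht'
    obtain ⟨hM', -, h2'⟩ := orbI_spec D R hI'
    refine ⟨hF2 t htF t' ht', (vCent ι).mul_mem htM hM', ?_, odd_of_pair D R htI hI' htG (hF2 t htF t' ht')⟩
    rw [mul_inv_rev, hti, inv_eq_of_mul_eq_one_right h2', ← mul_assoc, ht2, one_mul]
  have inD : ∀ t' ∈ F, t * (t * t') * t ∈ G0 := fun t' h => by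
    rw [(dspec t' h).2.2.1]; exact G0.inv_mem (dspec t' h).1
  -- every conjugate inside comes from an inverted element of odd order
  have surj : ∀ x ∈ I0, ∃ t' ∈ F, (t * t') * z * (t * t')⁻¹ = x := by
    have hmap : ∀ t' ∈ (F : Set G), (t * t') * z * (t * t')⁻¹ ∈ I0 := fun t' h =>
      ⟨⟨t * t', (dspec t' h).2.1, rfl⟩,
        G0.mul_mem (G0.mul_mem (dspec t' h).1 D.zmem) (G0.inv_mem (dspec t' h).1)⟩
    have hinj : Set.InjOn (fun t' => (t * t') * z * (t * t')⁻¹) (F : Set G) := by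
      intro a ha b hb e
      obtain ⟨a1, a2, -, a4⟩ := dspec a ha
      obtain ⟨b1, b2, -, b4⟩ := dspec b hb
      obtain ⟨v, hv, hve⟩ := semireg D R htM ht2 htG a1 a2 (inD a ha) b1 b2 (inD b hb) e
      rw [hve] at b4
      rw [eq_one_of_sq (v_central R a2 hv) a4 b4 (v_sq R hv), mul_one] at hve
      exact (mul_left_cancel hve).symm
    intro x hx
    have h1 : ((fun t' => (t * t') * z * (t * t')⁻¹) '' (F : Set G)) = I0 := by
      refine Set.eq_of_subset_of_ncard_le (Set.image_subset_iff.mpr hmap) ?_ (Set.toFinite _)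
      rw [hinj.ncard_image, Set.ncard_coe_finset]
      exact hF3
    rw [← h1] at hx
    exact hx
  -- they commute
  have hcomm : ∀ a ∈ F, ∀ b ∈ F, Commute (t * a) (t * b) := by
    intro a ha b hb
    obtain ⟨a1, a2, a3, -⟩ := dspec a ha
    obtain ⟨b1, b2, b3, -⟩ := dspec b hb
    have hab : t * (t * a * (t * b)) * t = (t * a)⁻¹ * (t * b)⁻¹ := by
      rw [← a3, ← b3]
      calc t * (t * a * (t * b)) * t = t * (t * a) * (1 * (t * b)) * t := by group
        _ = t * (t * a) * (t * t * (t * b)) * t := by rw [ht2]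
        _ = _ := by group
    obtain ⟨c, hc, hce⟩ := surj (t * a * (t * b) * z * (t * a * (t * b))⁻¹)
      ⟨⟨_, (vCent ι).mul_mem a2 b2, rfl⟩,
        G0.mul_mem (G0.mul_mem (G0.mul_mem a1 b1) D.zmem) (G0.inv_mem (G0.mul_mem a1 b1))⟩
    obtain ⟨c1, c2, c3, -⟩ := dspec c hc
    obtain ⟨v, hv, hve⟩ := semireg D R htM ht2 htG c1 c2 (inD c hc) (G0.mul_mem a1 b1)
      ((vCent ι).mul_mem a2 b2) (by rw [hab]; exact G0.mul_mem (G0.inv_mem a1) (G0.inv_mem b1)) hce
    have hvi : v⁻¹ = v := inv_eq_of_mul_eq_one_right (v_sq R hv)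
    have e1 : t * (t * c * v) * t = (t * c)⁻¹ * v := by
      rw [← c3]
      calc t * (t * c * v) * t = t * (t * c) * (v * t) := by group
        _ = t * (t * c) * (t * v) := by rw [v_central R htM hv]
        _ = _ := by group
    have e2 : (t * c)⁻¹ * v = (t * c * v)⁻¹ := by
      rw [mul_inv_rev (t * c) v, hvi]
      exact (v_central R ((vCent ι).inv_mem c2) hv)
    rw [← hve, hab] at e1
    rw [e2, ← hve, ← mul_inv_rev, inv_inj] at e1
    exact e1.symm
  obtain ⟨hu, hw, huw, -, -, -, -, -, -, -, -, -, hfy, hyS, hfx, hxS, hcen, hzz, -⟩ := four_pre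
  obtain ⟨hzzM, hzzF, hzzC⟩ := cen_spec D R hzz
  obtain ⟨kz, -, kzM, kze⟩ := frame D R (D.mem R (inS_ok (by
    have h0 := mem_all hcen hzz; simp only [Bool.and_eq_true] at h0; exact h0.2))) hzzM hzzF
  obtain ⟨t0, ht0, hd⟩ := surj (ι 35968) ⟨⟨kz, kzM, kze⟩, D.cent _ ((hzzC _ hzzM).mp rfl)⟩
  set d := t * t0
  obtain ⟨d1, d2, -, d4⟩ := dspec t0 ht0
  have dnorm : ∀ x ∈ I0, SameC ι (d * x * d⁻¹) x := by
    intro x hx
    obtain ⟨a, ha, rfl⟩ := surj x hx
    have e : d * (t * a * z * (t * a)⁻¹) * d⁻¹ = t * a * (d * z * d⁻¹) * (t * a)⁻¹ := by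
      have hc : d * (t * a) = t * a * d := (hcomm t0 ht0 a ha).eq
      calc d * (t * a * z * (t * a)⁻¹) * d⁻¹ = (d * (t * a)) * z * (d * (t * a))⁻¹ := by group
        _ = _ := by rw [hc]; group
    rw [e, hd]
    exact SameC.conj (dspec a ha).2.1 fun g hg => hzzC g hg
  have yinv : invC fy = true ∧ invC fx = true := by decide +kernel
  have yFull : ∀ {x : ℕ}, inS x = true → invC x = true → fullC x = true → Full z ι (ι x) :=
    fun {x} hS hi h => D.full_code R hi
      ((R.commute_iff (inS_ok hS) okV.1).mpr (mem_vCent.mp (inS_mem R hS)).1)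
      ((R.commute_iff (inS_ok hS) okV.2.1).mpr (mem_vCent.mp (inS_mem R hS)).2) h
  have yI : ∀ {x : ℕ}, inS x = true → Full z ι (ι x) → ι x ∈ I0 := fun {x} hS h => by
    obtain ⟨g, -, hgM, hge⟩ := frame D R (D.mem R (inS_ok hS)) (inS_mem R hS) h
    exact ⟨⟨g, hgM, hge⟩, D.mem R (inS_ok hS)⟩
  set y := ι fy
  have oy := inS_ok hyS
  have hyF := yFull hyS yinv.1 hfy
  have y2 : y * y = 1 := (R.invol yinv.1).1
  have hyi : y⁻¹ = y := inv_eq_of_mul_eq_one_right y2
  have yM := inS_mem R hyS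
  have hy' : d * y * d⁻¹ * z = z * (d * y * d⁻¹) := by
    refine (hzzC _ ((vCent ι).mul_mem ((vCent ι).mul_mem d2 yM) ((vCent ι).inv_mem d2))).mp ?_
    rw [← hd]
    show d * y * d⁻¹ * (d * z * d⁻¹) = d * z * d⁻¹ * (d * y * d⁻¹)
    calc d * y * d⁻¹ * (d * z * d⁻¹) = d * (y * z) * d⁻¹ := by group
      _ = d * (z * y) * d⁻¹ := by rw [R.comm oy]
      _ = _ := by group
  have hyI := yI hyS hyF
  obtain ⟨k, hk, hke⟩ := inS_code R (g := d * y * d⁻¹ * y)
    (by rw [mul_assoc, R.comm oy, ← mul_assoc, hy', mul_assoc])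
    ((vCent ι).mul_mem ((vCent ι).mul_mem ((vCent ι).mul_mem d2 yM) ((vCent ι).inv_mem d2)) yM)
  have ok' := inS_ok hk
  have hs := CosetEnum.allUp_spec four_final k (Nat.zero_le _) (by have := ok_lt ok'; norm_num; omega)
  simp only [hk, cond_true, Bool.or_eq_true, beq_iff_eq, Bool.not_eq_true', List.contains_iff_mem]
    at hs
  have hky : ι (cmul k fy) = d * y * d⁻¹ := by
    rw [R.hmul _ _ ok' oy, hke, mul_assoc, y2, mul_one]
  have moved : ∀ {x : ℕ}, (x = fy ∨ x = fx) → ∃ s, inS s = true ∧ cmul s x ≠ cmul x s := by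
    intro x hx
    have h := four_moved
    simp only [List.any_eq_true, List.mem_range, Bool.and_eq_true, Bool.not_eq_true', comC,
      beq_eq_false_iff_ne] at h
    rcases hx with rfl | rfl
    · obtain ⟨A, -, -, l, -, h1, h2⟩ := h.1; exact ⟨_, h1, h2⟩
    · obtain ⟨A, -, -, l, -, h1, h2⟩ := h.2; exact ⟨_, h1, h2⟩
  rcases hs with ((hs | hs) | hs) | hs
  · -- then the odd element centralizes
    obtain ⟨h, -, hhM, hhe⟩ := frame D R (D.mem R oy) yM hyF
    rw [hs, R.hone] at hke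
    have hdy : d * y = y * d := by
      calc d * y = d * y * d⁻¹ * y * (y * d) := by
            rw [mul_assoc _ y, ← mul_assoc y y, y2, one_mul]; group
        _ = _ := by rw [← hke, one_mul]
    have h1 : h⁻¹ * d * h = 1 := by
      refine odd_fix R ?_ ((vCent ι).mul_mem ((vCent ι).mul_mem ((vCent ι).inv_mem hhM) d2) hhM) ?_
      · have ho : orderOf (h⁻¹ * d * h) = orderOf d := by
          rw [show h⁻¹ * d * h = MulAut.conj h⁻¹ d by simp [MulAut.conj_apply]]
          exact orderOf_injective (MulAut.conj h⁻¹).toMonoidHom (MulAut.conj h⁻¹).injective d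
        rw [ho]; exact d4
      · change d * ι fy = ι fy * d at hdy
        rw [← hhe] at hdy
        calc h⁻¹ * d * h * z = h⁻¹ * (d * (h * z * h⁻¹)) * h := by group
          _ = _ := by rw [hdy]; group
    have hd1 : d = 1 := by
      calc d = h * (h⁻¹ * d * h) * h⁻¹ := by group
        _ = 1 := by rw [h1]; group
    rw [hd1] at hd
    have : zc = 35968 := R.inj _ _ ok_zc (inS_ok (by
      have h0 := mem_all hcen hzz; simp only [Bool.and_eq_true] at h0; exact h0.2))
      (by rw [R.z_eq, ← hd]; group)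
    exact absurd this (by decide)
  · have hi : invC (cmul k fy) = true := by
      simp only [invC, ok_cmul ok' oy, Bool.true_and, Bool.and_eq_true, beq_iff_eq,
        Bool.not_eq_true', beq_eq_false_iff_ne]
      refine ⟨R.inj _ _ (ok_cmul (ok_cmul ok' oy) (ok_cmul ok' oy)) ok_one ?_, fun e => ?_⟩
      · rw [R.hmul _ _ (ok_cmul ok' oy) (ok_cmul ok' oy), hky, R.hone]
        calc d * y * d⁻¹ * (d * y * d⁻¹) = d * (y * y) * d⁻¹ := by group
          _ = 1 := by rw [y2]; group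
      · have h0 := congrArg ι e
        rw [hky, R.hone] at h0
        refine (R.invol yinv.1).2 ?_
        show y = 1
        calc y = d⁻¹ * (d * y * d⁻¹) * d := by group
          _ = 1 := by rw [h0]; group
    have hM' : d * y * d⁻¹ ∈ vCent ι :=
      (vCent ι).mul_mem ((vCent ι).mul_mem d2 yM) ((vCent ι).inv_mem d2)
    obtain ⟨m1, m2⟩ := mem_vCent.mp hM'
    rw [← hky] at m1 m2
    have := D.code_full R hi ((R.commute_iff (ok_cmul ok' oy) okV.1).mpr m1)
      ((R.commute_iff (ok_cmul ok' oy) okV.2.1).mpr m2) (by rw [hky]; exact (full_conj_iff R d2).mpr hyF)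
    rw [hs] at this
    exact Bool.noConfusion this
  · refine no_block D R hyS hyF (moved (Or.inl rfl))
      (fun g hg => (dnorm _ hyI g hg).symm) hs ?_
    rw [R.hmul _ _ (ok_cmul oy ok') oy, R.hmul _ _ oy ok', hke]
    show y * (d * y * d⁻¹) = y * (d * y * d⁻¹ * y) * y
    rw [← mul_assoc y (d * y * d⁻¹) y, mul_assoc _ y y, y2, mul_one]
  · have ox := inS_ok hxS
    have hxF := yFull hxS yinv.2 hfx
    have hxI := yI hxS hxF
    refine no_block D R hxS hxF (moved (Or.inr rfl)) (x' := ι k * ι fx * (ι k)⁻¹) ?_ hs ?_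
    · have conjI : ∀ {g x : G}, g ∈ G0 → g ∈ vCent ι → x ∈ I0 → g * x * g⁻¹ ∈ I0 := by
        intro g x hgG hgM hx
        obtain ⟨⟨a, haM, rfl⟩, hx0⟩ := hx
        exact ⟨⟨g * a, (vCent ι).mul_mem hgM haM, by group⟩,
          G0.mul_mem (G0.mul_mem hgG hx0) (G0.inv_mem hgG)⟩
      set x1 := y * ι fx * y⁻¹
      have hx1 : x1 ∈ I0 := conjI (D.mem R oy) yM hxI
      have hx0 : d⁻¹ * x1 * d ∈ I0 := by
        simpa using conjI (g := d⁻¹) (G0.inv_mem d1) ((vCent ι).inv_mem d2) hx1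
      have e0 : SameC ι x1 (d⁻¹ * x1 * d) := by
        have := dnorm _ hx0
        rwa [show d * (d⁻¹ * x1 * d) * d⁻¹ = x1 by group] at this
      have e1 := e0.conj yM
      have hyx : y * x1 * y⁻¹ = ι fx := by
        simp only [x1]
        rw [hyi, ← mul_assoc, ← mul_assoc, y2, one_mul, mul_assoc, y2, mul_one]
      rw [hyx] at e1
      have e2 := dnorm _ (conjI (D.mem R oy) yM hx0)
      intro g hg
      rw [e1 g hg, ← e2 g hg, hke,
        show d * y * d⁻¹ * y * ι fx * (d * y * d⁻¹ * y)⁻¹ =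
          d * (y * (d⁻¹ * x1 * d) * y⁻¹) * d⁻¹ by simp only [x1]; group]
    · rw [R.hmul _ _ ox (ok_conj ok' ox), R.conj_eq ok' ox]

end CfsgLib.HeUnique
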