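import Cfsg.Agent.Lib.HeUnique.End.StabTop
import Cfsg.Agent.Lib.HeUnique.End.Cases
import Cfsg.Agent.Lib.Fitting.Basic

/-!
The four groups with this centralizer of an involution.
-/

set_option autoImplicit false
set_option maxRecDepth 8000

open Cfsg Cfsg.Spor CfsgLib.HePres

namespace CfsgLib.HeUnique

variable {G : Type*} [Group G] [Finite G] {z : G} {ι : ℕ → G}

theorem good_theta_theta {i : ℕ} (hi : i < 4) {s : G} (h : Good ι i s) :
    Good (fun x => (fun x => ι (theta x)) (theta x)) i s :=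
  h.congr (fun x hx => by show ι (theta (theta x)) = ι x; rw [theta_theta hx]) hi

theorem stab_iso (R : Rep z ι) (hA : IsConj z (ι cA)) (hB : ¬ IsConj z (ι cB)) {s : G}
    (hs : Good ι 2 s) : Nonempty (G ≃* StabGrp) := by
  obtain ⟨φ, hι, hσ⟩ := stab_hom R hs
  have hinj := stab_injective R φ hι
  have hdvd : Nat.card StabGrp ∣ 9999360 := card_SL52 ▸ Subgroup.card_subgroup_dvd_card StabGrp
  have htop := stab_eq_top R hA hB φ hinj hι ⟨_, hσ⟩ (hs.tabAct (by norm_num))
    (not_dvd_SL hdvd (by norm_num) φ hinj)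
  exact ⟨(MulEquiv.ofBijective φ ⟨hinj, MonoidHom.range_eq_top.mp htop⟩).symm⟩

/-- Four possibilities when the first class is fused. -/
theorem four_way (R : Rep z ι) (hA : IsConj z (ι cA)) :
    Nonempty (G ≃* StabGrp) ∨ Nonempty (G ≃* SL52) ∨ Nonempty (G ≃* M24) ∨ IsoHe G := by
  obtain ⟨i, hi, sA, hgA⟩ := exists_good R hA
  by_cases hB : IsConj z (ι cB)
  · have hA' : IsConj z ((fun x => ι (theta x)) cA) := by
      show IsConj z (ι (theta cA))
      rwa [theta_cA.1]
    obtain ⟨j, hj, sB, hgB⟩ := exists_good R.theta' hA'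
    rcases hi with rfl | rfl <;> rcases hj with rfl | rfl
    · exact Or.inr (Or.inr (Or.inr (he_iso R hgA hgB)))
    · exact Or.inr (Or.inr (Or.inl (m24_iso R hgA hgB)))
    · exact Or.inr (Or.inr (Or.inl (m24_iso R.theta' hgB (good_theta_theta (by norm_num) hgA))))
    · exact Or.inr (Or.inl (sl_iso R hgA hgB))
  · rcases hi with rfl | rfl
    · exact absurd (fused_cB R hgA hA) hB
    · exact Or.inl (stab_iso R hA hB hgA)

theorem four_way' (R : Rep z ι) (h : IsConj z (ι cA) ∨ IsConj z (ι cB)) :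
    Nonempty (G ≃* StabGrp) ∨ Nonempty (G ≃* SL52) ∨ Nonempty (G ≃* M24) ∨ IsoHe G := by
  rcases h with h | h
  · exact four_way R h
  · refine four_way R.theta' ?_
    show IsConj z (ι (theta cA))
    rwa [theta_cA.1]

theorem outer_facts : ((List.range 7).all fun r => decide (r < 3) ||
    (let y := cmul (invReps.getD r 0) (conj 10752 (invReps.getD r 0))
     ok 10752 && !(y == one) && cmul y (cmul y y) == one)) = true := by
  decide +kernel

/-- A fused element of the largest normal two-subgroup gives a fused class there. -/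
theorem fused_of_core (R : Rep z ι) {g : G}
    (hq : g * z * g⁻¹ ∈ Subgroup.centralizer ({z} : Set G))
    (hO : (⟨g * z * g⁻¹, hq⟩ : Subgroup.centralizer ({z} : Set G)) ∈
      Cfsg.pCore 2 (Subgroup.centralizer ({z} : Set G)))
    (hne : g * z * g⁻¹ ≠ z) : IsConj z (ι cA) ∨ IsConj z (ι cB) := by
  set C := Subgroup.centralizer ({z} : Set G)
  haveI := CfsgLib.Fitting.pCore_normal (G := C) 2
  have hconj : IsConj z (g * z * g⁻¹) := isConj_iff.mpr ⟨g, rfl⟩
  obtain ⟨b, hb, hbe⟩ := R.code_of_invol (Subgroup.mem_centralizer_singleton_iff.mp hq) (by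
      calc g * z * g⁻¹ * (g * z * g⁻¹) = g * (z * z) * g⁻¹ := by group
        _ = 1 := by rw [z_sq R]; group) (fun e => not_isConj_one R (e ▸ hconj))
  have hbz : b ≠ zc := fun e => hne (by rw [← hbe, e, R.z_eq])
  obtain ⟨hr, c, oc, hc⟩ := cls_spec hb hbz
  have orr := invReps_ok hr
  have er : ι (invReps.getD (cls b) 0) = (ι c)⁻¹ * (g * z * g⁻¹) * ι c := by
    rw [← hbe]; nth_rewrite 2 [← hc]; rw [R.conj_eq oc orr]; group
  have hP : IsConj z (ι (invReps.getD (cls b) 0)) := by
    rw [er]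
    simpa using (isConj_conj_iff (z := z) (ι c)⁻¹).mpr hconj
  obtain ⟨e0, e1, e2, -⟩ := invReps_head
  by_cases h3 : cls b < 3
  · interval_cases hcl : cls b
    · exact Or.inl (by rw [← e0]; exact hP)
    · exact Or.inr (by rw [← e1]; exact hP)
    · exact absurd (e2 ▸ hP) (not_fused_cAB R)
  · exfalso
    set r := cls b
    have hf := range_all outer_facts hr
    simp only [decide_eq_false h3, Bool.false_or, Bool.and_eq_true, Bool.not_eq_true',
      beq_eq_false_iff_ne, beq_iff_eq] at hf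
    obtain ⟨⟨o10, hy1⟩, hy3⟩ := hf
    set x := invReps.getD r 0
    set y := cmul x (conj 10752 x) with hy
    have mem : ∀ {a : ℕ}, ok a = true → ι a ∈ C := fun ha =>
      Subgroup.mem_centralizer_singleton_iff.mpr (R.comm ha)
    set O := Cfsg.pCore 2 C
    have hxO : (⟨ι x, mem orr⟩ : C) ∈ O := by
      have := ‹O.Normal›.conj_mem _ hO (⟨ι c, mem oc⟩⁻¹ : C)
      convert this using 1
      exact Subtype.ext (by simpa using er)
    have oy : ok y = true := ok_cmul orr (ok_conj o10 orr)
    have hyO : (⟨ι y, mem oy⟩ : C) ∈ O := by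
      have := O.mul_mem hxO (‹O.Normal›.conj_mem _ hxO (⟨ι 10752, mem o10⟩ : C))
      convert this using 1
      apply Subtype.ext
      simp [hy, R.hmul _ _ orr (ok_conj o10 orr), R.conj_eq o10 orr]
    obtain ⟨k, hk⟩ := CfsgLib.Fitting.pCore_isPGroup 2 ⟨_, hyO⟩
    have h2 : ι y ^ (2 ^ k) = 1 := by
      have := congrArg (fun t : O => ((t : C) : G)) hk
      simpa using this
    have h3' : ι y ^ 3 = 1 := by
      rw [← R.hone, ← hy3, R.hmul _ _ oy (ok_cmul oy oy), R.hmul _ _ oy oy]
      simp [pow_succ, mul_assoc]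
    have hcop : Nat.Coprime 3 (2 ^ k) := Nat.Coprime.pow_right k (by norm_num)
    have h1 : ι y = 1 := by
      rw [← orderOf_eq_one_iff]
      exact Nat.eq_one_of_dvd_coprimes hcop (orderOf_dvd_of_pow_eq_one h3')
        (orderOf_dvd_of_pow_eq_one h2)
    exact hy1 (R.inj _ _ oy ok_one (h1.trans R.hone.symm))

end CfsgLib.HeUnique
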