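import Cfsg.Agent.Lib.HeUnique.End.Steps
import Cfsg.Agent.Lib.HeUnique.End.Count
import Cfsg.Agent.Lib.HeUnique.End.Data

/-!
The linear case and the Mathieu case: nothing lies outside.
-/

set_option autoImplicit false
set_option maxRecDepth 8000

namespace CfsgLib.HeUnique

/-- The third class. -/
def uAB : ℕ := 34964

theorem five_facts : firstOK pcFive uAB secondW partnerFive = true ∧
    secondOK pcFive 35210 51330 cB = true ∧
    ((List.range 7).all fun r => routeOK [phiTab 2, thTab (phiTab 2)] (pathsFive.getD r ([], 0))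
      (invReps.getD r 0) (bif pcFive.contains r then zc else cAB)) = true := by
  decide +kernel

theorem mix_facts : firstOK pcMix uAB secondW partnerMix = true ∧
    secondOK pcMix 35210 51330 cB = true ∧
    ((List.range 7).all fun r => routeOK [phiTab 0, thTab (phiTab 2)] (pathsMix.getD r ([], 0))
      (invReps.getD r 0) (bif pcMix.contains r then zc else cAB)) = true := by
  decide +kernel

theorem shift_facts : ok shiftC = true ∧ ok uAB = true ∧ ok secondW = true ∧
    (thTab (phiTab 2)).get 402 = (conj shiftC uAB, 35210) ∧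
    (thTab (phiTab 2)).get 1100 = (conj shiftC secondW, 51330) ∧ uAB = cAB := by
  decide +kernel

variable {G : Type*} [Group G] [Finite G] {z : G} {ι : ℕ → G} {G0 : Subgroup G}

theorem eq_top_of_tables (R : Rep z ι) (hC : ∀ g : G, g * z = z * g → g ∈ G0)
    (h11 : ¬ 2 ^ 11 ∣ Nat.card G0) {t : Tree (ℕ × ℕ)} {sA sB : G} (hsA : sA ∈ G0) (hsB : sB ∈ G0)
    (hA : TabAct ι t sA) (hB : TabAct ι (thTab (phiTab 2)) sB) {Pc : List ℕ} {e : ℕ}
    {paths : List (List (ℕ × ℕ × ℕ) × ℕ)}
    (h : firstOK Pc uAB secondW e = true ∧ secondOK Pc 35210 51330 cB = true ∧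
      ((List.range 7).all fun r => routeOK [t, thTab (phiTab 2)] (paths.getD r ([], 0))
        (invReps.getD r 0) (bif Pc.contains r then zc else cAB)) = true) : G0 = ⊤ := by
  obtain ⟨h1, h2, h3⟩ := h
  have hS := comm_of_card R hC h11
  have hts : ∀ k < [t, thTab (phiTab 2)].length,
      ∃ s ∈ G0, TabAct ι ([t, thTab (phiTab 2)].getD k tabA) s := by
    intro k hk
    simp only [List.length_cons, List.length_nil] at hk
    interval_cases k
    exacts [⟨sA, hsA, hA⟩, ⟨sB, hsB, hB⟩]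
  have D := ctx_of_paths R hC hS hts h3
  obtain ⟨oc, ou, ow, e1, e2, eu⟩ := shift_facts
  have hV2 := cent_of_second D R h2
  have hV := cent_transport R hB hsB oc (D.mem R oc) ou ow (mu := 402) (mw := 1100) (by norm_num)
    (by norm_num) e1 e2 hV2
  have hu : invC uAB = true ∧ isP Pc uAB = false := by
    simp only [firstOK, Bool.and_eq_true, Bool.not_eq_true'] at h1
    exact ⟨h1.1.1.1.1.1.1.1.1.1.1.1.1, h1.1.1.1.1.1.2⟩
  have hFix : Fix G0 (ι uAB) :=
    fix_of_cent (D.fix_z R) (R.invol hu.1).1 (cent_of_first D R h1 hV) hS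
  refine D.eq_top R hu.1 hu.2 fun r hr hP => ?_
  have h' := range_all h3 hr
  rw [hP, cond_false] at h'
  obtain ⟨g, hg, he⟩ := routeOK_spec R hC hts (invReps_ok hr) h'
  refine Fix.of_conj hg ?_
  rw [he, ← eu]
  exact hFix

theorem five_eq_top (R : Rep z ι) (hC : ∀ g : G, g * z = z * g → g ∈ G0)
    (h11 : ¬ 2 ^ 11 ∣ Nat.card G0) {sA sB : G} (hsA : sA ∈ G0) (hsB : sB ∈ G0)
    (hA : Good ι 2 sA) (hB : Good (fun x => ι (theta x)) 2 sB) : G0 = ⊤ :=
  eq_top_of_tables R hC h11 hsA hsB (hA.tabAct (by norm_num)) (hB.tabActTheta (by norm_num))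
    five_facts

theorem mix_eq_top (R : Rep z ι) (hC : ∀ g : G, g * z = z * g → g ∈ G0)
    (h11 : ¬ 2 ^ 11 ∣ Nat.card G0) {sA sB : G} (hsA : sA ∈ G0) (hsB : sB ∈ G0)
    (hA : Good ι 0 sA) (hB : Good (fun x => ι (theta x)) 2 sB) : G0 = ⊤ :=
  eq_top_of_tables R hC h11 hsA hsB (hA.tabAct (by norm_num)) (hB.tabActTheta (by norm_num))
    mix_facts

end CfsgLib.HeUnique
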