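import Cfsg.Agent.Lib.HeUnique.End.FourTop
import Cfsg.Agent.Lib.HeUnique.End.Two

/-!
The Held case: nothing lies outside the image of the presented group.
-/

set_option autoImplicit false
set_option maxRecDepth 8000

open Cfsg.Spor CfsgLib.HePres

namespace CfsgLib.HeUnique

theorem he_facts : firstOK pcHe fu fw partnerHe = true ∧
    ((List.range 7).all fun r => routeOK [phiTab 0, thTab (phiTab 0)] (pathsHe.getD r ([], 0))
      (invReps.getD r 0) (bif pcHe.contains r then zc else cAB)) = true := by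
  decide +kernel

variable {G : Type*} [Group G] [Finite G] {z : G} {ι : ℕ → G} {G0 : Subgroup G}

theorem he_eq_top (R : Rep z ι) (hC : ∀ g : G, g * z = z * g → g ∈ G0)
    (h11 : ¬ 2 ^ 11 ∣ Nat.card G0) {sA sB : G} (hsA : sA ∈ G0) (hsB : sB ∈ G0)
    (hA : Good ι 0 sA) (hB : Good (fun x => ι (theta x)) 0 sB) : G0 = ⊤ := by
  obtain ⟨h1, h3⟩ := he_facts
  have hS := comm_of_card R hC h11
  have hts : ∀ k < [phiTab 0, thTab (phiTab 0)].length,
      ∃ s ∈ G0, TabAct ι ([phiTab 0, thTab (phiTab 0)].getD k tabA) s := by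
    intro k hk
    simp only [List.length_cons, List.length_nil] at hk
    interval_cases k
    exacts [⟨sA, hsA, hA.tabAct (by norm_num)⟩, ⟨sB, hsB, hB.tabActTheta (by norm_num)⟩]
  have D := ctx_of_paths R hC hS hts h3
  obtain ⟨hu, -, -, -, -, nu, -⟩ := four_pre
  have hV : ∀ g : G, g * ι fu = ι fu * g → g * ι fw = ι fw * g → g ∈ G0 :=
    fun g a b => cent_four D R g (mem_vCent.mpr ⟨a, b⟩)
  have hFix : Fix G0 (ι fu) :=
    fix_of_cent (D.fix_z R) (R.invol hu).1 (cent_of_first D R h1 hV) hS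
  refine D.eq_top R hu nu fun r hr hP => ?_
  have h' := range_all h3 hr
  rw [hP, cond_false] at h'
  obtain ⟨g, hg, he⟩ := routeOK_spec R hC hts (invReps_ok hr) h'
  refine Fix.of_conj hg ?_
  rw [he, ← four_pre.2.2.2.2.2.2.2.2.2.2.2.2.2.2.2.2.2.2]
  exact hFix

end CfsgLib.HeUnique
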