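import Cfsg.Prelude.Def_MonsterType
import Cfsg.Agent.Lib.HeUnique.Struct.SetupMany
import Cfsg.Agent.Lib.HeUnique.End.FourWay
import Cfsg.Agent.Lib.Layer.Basic

/-!
A group of Held type in which two extraspecial subgroups share at most three conjugates of the
central involution is the Held group.
-/

set_option autoImplicit false
set_option maxRecDepth 8000

open Cfsg Cfsg.Spor CfsgLib.HePres

namespace CfsgLib.HeUnique

/-- the shared part for the linear kind -/
def shared : List ℕ := (List.range 1536).filter fun m => fA (kEl m) == 273 &&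
  fA ((phiTab 2).get m).2 == 273 && invC (kEl m) && !(kEl m == zc) && cls (kEl m) == 0

theorem shared_facts : 3 ≤ shared.length ∧ (shared.map kEl).Nodup ∧ fA zc = 273 ∧ fA cA = 273 ∧
    fA (theta cA) = 273 := by decide +kernel

theorem fA_mem {x : ℕ} (hx : x < 65536) : mm (fA x) 273 = fA x ∧ mm 273 (fA x) = fA x := by
  have h := zc_parts.1
  simp only [List.all_eq_true, List.mem_range, Bool.and_eq_true, beq_iff_eq] at h
  exact ⟨(h _ (fA_lt hx)).1.1.1, (h _ (fA_lt hx)).1.1.2⟩

variable {G : Type*} [Group G] [Finite G] {z : G} {ι : ℕ → G}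

/-- The elements over the identity of the quotient. -/
def qSub (R : Rep z ι) : Subgroup ↥(Subgroup.centralizer ({z} : Set G)) where
  carrier := {g | ∃ x, ok x = true ∧ fA x = 273 ∧ ι x = (g : G)}
  one_mem' := ⟨one, ok_one, by decide, R.hone⟩
  mul_mem' := by
    rintro g g' ⟨x, ox, hx, ex⟩ ⟨y, oy, hy, ey⟩
    refine ⟨cmul x y, ok_cmul ox oy, ?_, by rw [R.hmul _ _ ox oy, ex, ey]; rfl⟩
    rw [fA_cmul (ok_lt ox) (ok_lt oy), hx, (fA_mem (ok_lt oy)).2, hy]
  inv_mem' := by
    rintro g ⟨x, ox, hx, ex⟩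
    obtain ⟨oi, hi⟩ := inv_facts ox
    refine ⟨cinv x, oi, ?_, by rw [R.inv ox, ex]; rfl⟩
    have h := congrArg fA (cinv_mul ox)
    rw [fA_cmul (ok_lt oi) (ok_lt ox), hx, (fA_mem (ok_lt oi)).1] at h
    rw [h]; decide

/-- A code over the identity lies in the normal two-subgroup. -/
theorem code_mem (R : Rep z ι) (W : Subgroup ↥(Subgroup.centralizer ({z} : Set G)))
    (hW : Cfsg.pCore 2 ↥(Subgroup.centralizer ({z} : Set G)) ≤ W) {x : ℕ} (ox : ok x = true)
    (hx : fA x = 273) : ι x ∈ W.map (Subgroup.centralizer ({z} : Set G)).subtype := by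
  classical
  set C := Subgroup.centralizer ({z} : Set G)
  have hn : (qSub R).Normal := by
    refine ⟨?_⟩
    rintro g ⟨y, oy, hy, ey⟩ c
    obtain ⟨d, od, ed⟩ := R.surj _ (Subgroup.mem_centralizer_singleton_iff.mp c.2)
    obtain ⟨oi, hi⟩ := inv_facts od
    refine ⟨cmul (cmul d y) (cinv d), ok_cmul (ok_cmul od oy) oi, ?_, ?_⟩
    · rw [fA_cmul (cmul_lt (ok_lt od) (ok_lt oy)) (ok_lt oi), fA_cmul (ok_lt od) (ok_lt oy), hy,
        (fA_mem (ok_lt od)).1, ← fA_cmul (ok_lt od) (ok_lt oi), hi]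
      decide
    · rw [R.hmul _ _ (ok_cmul od oy) oi, R.hmul _ _ od oy, R.inv od, ed, ey]; rfl
  have hp : IsPGroup 2 ↥(qSub R) := by
    have hex : ∀ g : ↥(qSub R), ∃ x, ok x = true ∧ fA x = 273 ∧ ι x = ((g : ↥C) : G) := fun g => g.2
    choose pick p1 p2 p3 using hex
    let F : ↥(qSub R) → Fin 128 := fun g => ⟨pick g % 128, Nat.mod_lt _ (by norm_num)⟩
    have hF : Function.Injective F := by
      intro g g' e
      have h : pick g % 128 = pick g' % 128 := congrArg Fin.val e
      have a1 := p2 g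
      have a2 := p2 g'
      simp only [fA] at a1 a2
      have h' : pick g = pick g' := by omega
      exact Subtype.ext (Subtype.ext (by rw [← p3 g, ← p3 g', h']))
    intro g
    have hle := Nat.card_le_card_of_injective F hF
    rw [Nat.card_fin] at hle
    have key : ∀ q : ↥(qSub R), q ^ 4 = 1 := by
      intro q
      obtain ⟨y, oy, hy, ey⟩ := q.2
      have hs : cmul (cmul y y) (cmul y y) = one := by
        have hall : CosetEnum.allUp (fun l => bif ok (273 * 128 + l) then
            cmul (cmul (273 * 128 + l) (273 * 128 + l)) (cmul (273 * 128 + l) (273 * 128 + l)) == one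
            else true) 7 0 = true := by decide +kernel
        have h := CosetEnum.allUp_spec hall (y % 128) (Nat.zero_le _) (by norm_num; omega)
        have ey' : 273 * 128 + y % 128 = y := by simp only [fA] at hy; omega
        simp only [ey', oy, cond_true, beq_iff_eq] at h
        exact h
      refine Subtype.ext (Subtype.ext ?_)
      show ((q : ↥C) : G) ^ 4 = 1
      rw [← ey, ← R.hone, ← hs, R.hmul _ _ (ok_cmul oy oy) (ok_cmul oy oy), R.hmul _ _ oy oy,
        pow_succ, pow_succ, pow_succ, pow_one]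
      group
    exact ⟨2, key g⟩
  have h1 : qSub R ≤ Cfsg.pCore 2 ↥C := le_sSup ⟨hn, hp⟩
  exact ⟨⟨ι x, Subgroup.mem_centralizer_singleton_iff.mpr (R.comm ox)⟩, hW (h1 ⟨x, ox, hx, rfl⟩), rfl⟩

/-- The linear kind has four shared conjugates. -/
theorem not_linear (R : Rep z ι) (hA : IsConj z (ι cA)) {s : G} (hs : Good ι 2 s)
    (W : Subgroup ↥(Subgroup.centralizer ({z} : Set G)))
    (hW : Cfsg.pCore 2 ↥(Subgroup.centralizer ({z} : Set G)) ≤ W)
    (hmeet : ∀ g : G, g * z * g⁻¹ ∈ W.map (Subgroup.centralizer ({z} : Set G)).subtype →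
      g * z * g⁻¹ ≠ z → {y | IsConj z y ∧ y ∈ W.map (Subgroup.centralizer ({z} : Set G)).subtype ∧
        g⁻¹ * y * g ∈ W.map (Subgroup.centralizer ({z} : Set G)).subtype}.ncard ≤ 3) : False := by
  classical
  obtain ⟨hlen, hnd, hfz, hfA, -⟩ := shared_facts
  obtain ⟨oA, -, -, -, -, -, -, -, -, -, -, -, -⟩ := gensK_facts
  obtain ⟨hsz, hsA⟩ := hs.act.center R (by norm_num)
  have hsi : s⁻¹ = s := inv_eq_of_mul_eq_one_right hs.sq
  have hne : s * z * s⁻¹ ≠ z := by
    rw [hsz]
    intro e
    have := R.inj _ _ oA ok_zc (e.trans R.z_eq.symm)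
    exact absurd this (by decide)
  have hm := hmeet s (by rw [hsz]; exact code_mem R W hW oA hfA) hne
  set T := {y | IsConj z y ∧ y ∈ W.map (Subgroup.centralizer ({z} : Set G)).subtype ∧
    s⁻¹ * y * s ∈ W.map (Subgroup.centralizer ({z} : Set G)).subtype}
  let L : List G := z :: shared.map fun m => ι (kEl m)
  have hsub : ∀ y ∈ L, y ∈ T := by
    intro y hy
    rcases List.mem_cons.mp hy with hy | hy
    · rw [hy]
      refine ⟨IsConj.refl _, by have := code_mem R W hW ok_zc hfz; rwa [R.z_eq] at this, ?_⟩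
      have e : s⁻¹ * z * s = ι cA := by rw [← hsz, hsi]
      rw [e]
      exact code_mem R W hW oA hfA
    · obtain ⟨m, hm', rfl⟩ := List.mem_map.mp hy
      simp only [shared, List.mem_filter, List.mem_range, Bool.and_eq_true, beq_iff_eq,
        Bool.not_eq_true', beq_eq_false_iff_ne] at hm'
      obtain ⟨hm1, ⟨⟨⟨hk, hp⟩, hinv⟩, hnz⟩, hc⟩ := hm'
      have ok' : ok (kEl m) = true := (kEl_facts hm1).1
      obtain ⟨-, c, oc, hcc⟩ := cls_spec hinv hnz
      rw [hc, invReps_head.1] at hcc
      refine ⟨?_, code_mem R W hW ok' hk, ?_⟩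
      · rw [← hcc]; exact R.isConj_conj oc oA hA
      · have h2 := (hs.tabAct (by norm_num)) m hm1
        rw [(tab_step (by norm_num) hm1).1] at h2
        rw [hsi, show s * ι (kEl m) * s = s * ι (kEl m) * s⁻¹ by rw [hsi], h2.2]
        exact code_mem R W hW h2.1 hp
  have hnodup : L.Nodup := by
    refine List.nodup_cons.mpr ⟨?_, ?_⟩
    · intro hz'
      obtain ⟨m, hm', e⟩ := List.mem_map.mp hz'
      simp only [shared, List.mem_filter, List.mem_range, Bool.and_eq_true, beq_iff_eq,
        Bool.not_eq_true', beq_eq_false_iff_ne] at hm'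
      exact hm'.2.1.2 (R.inj _ _ (kEl_facts hm'.1).1 ok_zc (e.trans R.z_eq.symm))
    · rw [show (shared.map fun m => ι (kEl m)) = (shared.map kEl).map ι by rw [List.map_map]; rfl]
      refine List.Nodup.map_on ?_ hnd
      intro x hx y hy e
      obtain ⟨m, hm', rfl⟩ := List.mem_map.mp hx
      obtain ⟨n, hn', rfl⟩ := List.mem_map.mp hy
      simp only [shared, List.mem_filter, List.mem_range] at hm' hn'
      exact R.inj _ _ (kEl_facts hm'.1).1 (kEl_facts hn'.1).1 e
  have h4 : L.toFinset.card ≤ T.ncard := by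
    rw [← Set.ncard_coe_finset]
    exact Set.ncard_le_ncard (fun y hy => hsub y (List.mem_toFinset.mp hy)) (Set.toFinite _)
  rw [List.toFinset_card_of_nodup hnodup] at h4
  simp only [L, List.length_cons, List.length_map] at h4
  omega

/-- Recognition from the bound on the shared conjugates. -/
theorem isoHe_of_meet (Q : Subgroup (Subgroup.centralizer ({z} : Set G))) [Q.Normal]
    (hset : IsExtraspecialCentralizerSetting z Q 3)
    (hiso : Nonempty ((Subgroup.centralizer ({z} : Set G)) ⧸ Q ≃* Matrix.SpecialLinearGroup (Fin 3) (ZMod 2)))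
    (hcount : {x : Subgroup.centralizer ({z} : Set G) | x ∈ Q ∧ IsConj z (x : G)}.ncard = 29)
    (hmeet : ∀ g : G, g * z * g⁻¹ ∈ Q.map (Subgroup.centralizer ({z} : Set G)).subtype →
      g * z * g⁻¹ ≠ z → {y | IsConj z y ∧ y ∈ Q.map (Subgroup.centralizer ({z} : Set G)).subtype ∧
        g⁻¹ * y * g ∈ Q.map (Subgroup.centralizer ({z} : Set G)).subtype}.ncard ≤ 3) : IsoHe G := by
  classical
  haveI : Fact (Nat.Prime 2) := ⟨Nat.prime_two⟩
  obtain ⟨hz, hF, hQ, hcard, g, ⟨hq, hgQ⟩, hne⟩ := hset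
  obtain ⟨eq⟩ := hiso
  have h2c : Subgroup.centralizer (Q : Set (Subgroup.centralizer ({z} : Set G))) ≤ Q := by
    have h := CfsgLib.Layer.centralizer_generalizedFitting_le
      (G := ↥(Subgroup.centralizer ({z} : Set G)))
    rwa [hF] at h
  have hQcore : Cfsg.pCore 2 ↥(Subgroup.centralizer ({z} : Set G)) ≤ Q := by
    haveI := CfsgLib.Fitting.pCore_normal (G := ↥(Subgroup.centralizer ({z} : Set G))) 2
    calc Cfsg.pCore 2 ↥(Subgroup.centralizer ({z} : Set G))
        ≤ Cfsg.fittingSubgroup _ := CfsgLib.Fitting.le_fittingSubgroup inferInstance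
          (CfsgLib.Fitting.pCore_isPGroup 2).isNilpotent
      _ ≤ Cfsg.generalizedFittingSubgroup _ := le_sup_right
      _ = Q := hF
  have hQle : Q ≤ Cfsg.pCore 2 ↥(Subgroup.centralizer ({z} : Set G)) :=
    le_sSup ⟨inferInstance, IsPGroup.of_card hcard⟩
  have hmany : 16 < {y : G | IsConj z y ∧ y * z = z * y}.ncard := by
    have h : {x : Subgroup.centralizer ({z} : Set G) | x ∈ Q ∧ IsConj z (x : G)}.ncard ≤
        {y : G | IsConj z y ∧ y * z = z * y}.ncard := by
      rw [← Set.ncard_image_of_injective _ Subtype.val_injective]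
      refine Set.ncard_le_ncard ?_ (Set.toFinite _)
      rintro _ ⟨x, hx, rfl⟩
      exact ⟨hx.2, Subgroup.mem_centralizer_singleton_iff.mp x.2⟩
    omega
  obtain ⟨ι, R⟩ := Struct.exists_rep_many z hz _ rfl Q hQ (by rw [hcard]) h2c eq hmany
  have main : ∀ {κ : ℕ → G}, Rep z κ → IsConj z (κ cA) → IsoHe G := by
    intro κ Rκ hA
    obtain ⟨i, hi, sA, hgA⟩ := exists_good Rκ hA
    rcases hi with rfl | rfl
    · have hB := fused_cB Rκ hgA hA
      have hA' : IsConj z ((fun x => κ (theta x)) cA) := by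
        show IsConj z (κ (theta cA))
        rwa [theta_cA.1]
      obtain ⟨j, hj, sB, hgB⟩ := exists_good Rκ.theta' hA'
      rcases hj with rfl | rfl
      · exact he_iso Rκ hgA hgB
      · exact (not_linear Rκ.theta' hA' hgB Q hQcore hmeet).elim
    · exact (not_linear Rκ hA hgA Q hQcore hmeet).elim
  rcases fused_of_core R hq (hQle hgQ) hne with h | h
  · exact main R h
  · refine main R.theta' ?_
    show IsConj z (ι (theta cA))
    rwa [theta_cA.1]

end CfsgLib.HeUnique
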