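import Cfsg.Agent.Lib.HeUnique.End.FourWay
import Cfsg.Agent.Lib.ZStar.Main

/-!
In a simple group one of the two classes in the largest normal two-subgroup is fused.
-/

set_option autoImplicit false
set_option maxRecDepth 8000

open Cfsg

namespace CfsgLib.HeUnique

/-- The code with the given index in the list of candidate involutions. -/
def invIdx (i : ℕ) : ℕ := invMats.getD (i / 128) 273 * 128 + i % 128

/-- All involution codes. -/
def invCodes : List ℕ := ((List.range 2816).map invIdx).filter invC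

theorem mem_invCodes {x : ℕ} : x ∈ invCodes ↔ invC x = true := by
  refine ⟨fun h => (List.mem_filter.mp h).2, fun hx => List.mem_filter.mpr ⟨?_, hx⟩⟩
  have hx' := hx
  simp only [invC, Bool.and_eq_true, beq_iff_eq] at hx'
  have ox := hx'.1.1
  have hA : mm (fA x) (fA x) = 273 := by
    rw [← fA_cmul (ok_lt ox) (ok_lt ox), hx'.1.2]; decide
  have hm := range_all invMats_all (fA_lt (ok_lt ox))
  simp only [okA_of ox, hA, beq_self_eq_true, Bool.and_self, cond_true, List.contains_iff_mem] at hm
  have hl : invMats.length = 22 := by decide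
  have hj := List.idxOf_lt_length_iff.mpr hm
  refine List.mem_map.mpr ⟨invMats.idxOf (fA x) * 128 + x % 128, List.mem_range.mpr (by omega), ?_⟩
  simp only [invIdx]
  rw [show (invMats.idxOf (fA x) * 128 + x % 128) / 128 = invMats.idxOf (fA x) by omega,
    show (invMats.idxOf (fA x) * 128 + x % 128) % 128 = x % 128 by omega,
    List.getD_eq_getElem _ _ hj, List.getElem_idxOf]
  simp only [fA]; omega

theorem invCodes_nodup : invCodes.Nodup := by
  refine List.Nodup.filter _ (List.Nodup.map_on ?_ List.nodup_range)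
  intro a ha b hb h
  rw [List.mem_range] at ha hb
  have hl : invMats.length = 22 := by decide
  simp only [invIdx] at h
  rw [List.getD_eq_getElem _ _ (by omega), List.getD_eq_getElem _ _ (by omega)] at h
  have hi : invMats.Nodup := by decide
  have : a / 128 = b / 128 := (hi.getElem_inj_iff (hi := by omega) (hj := by omega)).mp (by omega)
  omega

/-- A fused involution code. -/
def fusedC (Pc : List ℕ) (y : ℕ) : Bool := invC y && isP Pc y

/-- The codes of the fused pairs at two commuting codes. -/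
def pairCount (Pc : List ℕ) (a b : ℕ) : ℕ :=
  (invCodes.filter fun y => comC y a && comC y b && isP Pc y && fusedC Pc (cmul b y)).length

/-- The possible sets of fused outer classes. -/
def outerSets : List (List ℕ) := [[3], [5], [6], [3, 5], [3, 6], [5, 6], [3, 5, 6]]

theorem outer_counts : (outerSets.all fun Pc =>
    let r := bif Pc.contains 5 then 5 else bif Pc.contains 6 then 6 else 3
    Pc.contains r && Pc.all fun r' =>
      !(pairCount Pc zc (invReps.getD r 0) == pairCount Pc (invReps.getD r' 0) zc)) = true := by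
  decide +kernel

/-- Square roots of the central code in the centralizers of the outer classes. -/
def rootsZ : List ℕ := [34980, 34980, 51346, 36040]

theorem rootsZ_ok : ((List.range 4).all fun j => let d := rootsZ.getD j 0
    ok d && cmul d d == zc && comC d (invReps.getD (j + 3) 0)) = true := by
  decide +kernel

/-- The check that a code is not a square. -/
def notSqOK (x : ℕ) : Bool :=
  bif decide (x < 65536) && ok x then !(cmul x x == invReps.getD 4 0) else true

theorem not_sq_0 : CosetEnum.allUp notSqOK 14 0 = true := by decide +kernel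
theorem not_sq_1 : CosetEnum.allUp notSqOK 14 16384 = true := by decide +kernel
theorem not_sq_2 : CosetEnum.allUp notSqOK 14 32768 = true := by decide +kernel
theorem not_sq_3 : CosetEnum.allUp notSqOK 14 49152 = true := by decide +kernel

theorem not_sq {x : ℕ} (hx : ok x = true) : cmul x x ≠ invReps.getD 4 0 := by
  have h := CosetEnum.allUp_spec (allUp_join (allUp_join not_sq_0 not_sq_1 (by norm_num))
    (allUp_join not_sq_2 not_sq_3 (by norm_num)) (by norm_num)) x (Nat.zero_le _)
    (by have := ok_lt hx; norm_num; omega)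
  simpa only [notSqOK, hx, decide_eq_true (ok_lt hx), Bool.and_self, cond_true, Bool.not_eq_true',
    beq_eq_false_iff_ne] using h

theorem invReps_invC : ((List.range 7).all fun r =>
    invC (invReps.getD r 0) && !(invReps.getD r 0 == zc)) = true := by
  decide +kernel

variable {G : Type*} [Group G] {z : G} {ι : ℕ → G}

/-- The conjugates of `z` centralising `u` and `v` whose product with `v` is another one. -/
def pairSet (z u v : G) : Set G :=
  {y | IsConj z y ∧ y * u = u * y ∧ y * v = v * y ∧ IsConj z (v * y)}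

theorem pairSet_conj (g u v : G) :
    (pairSet z (g * u * g⁻¹) (g * v * g⁻¹)).ncard = (pairSet z u v).ncard := by
  have e : pairSet z (g * u * g⁻¹) (g * v * g⁻¹) = MulAut.conj g '' pairSet z u v := by
    ext y
    simp only [Set.mem_image, MulAut.conj_apply, pairSet, Set.mem_setOf_eq]
    constructor
    · rintro ⟨h1, h2, h3, h4⟩
      refine ⟨g⁻¹ * y * g, ⟨?_, ?_, ?_, ?_⟩, by group⟩
      · simpa using (isConj_conj_iff g⁻¹).mpr h1
      · calc g⁻¹ * y * g * u = g⁻¹ * (y * (g * u * g⁻¹)) * g := by group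
          _ = g⁻¹ * (g * u * g⁻¹ * y) * g := by rw [h2]
          _ = u * (g⁻¹ * y * g) := by group
      · calc g⁻¹ * y * g * v = g⁻¹ * (y * (g * v * g⁻¹)) * g := by group
          _ = g⁻¹ * (g * v * g⁻¹ * y) * g := by rw [h3]
          _ = v * (g⁻¹ * y * g) := by group
      · have e : g⁻¹ * (g * v * g⁻¹ * y) * g⁻¹⁻¹ = v * (g⁻¹ * y * g) := by group
        rw [← e]; exact (isConj_conj_iff g⁻¹).mpr h4
    · rintro ⟨w, ⟨h1, h2, h3, h4⟩, rfl⟩
      refine ⟨(isConj_conj_iff g).mpr h1, ?_, ?_, ?_⟩
      · calc g * w * g⁻¹ * (g * u * g⁻¹) = g * (w * u) * g⁻¹ := by group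
          _ = g * u * g⁻¹ * (g * w * g⁻¹) := by rw [h2]; group
      · calc g * w * g⁻¹ * (g * v * g⁻¹) = g * (w * v) * g⁻¹ := by group
          _ = g * v * g⁻¹ * (g * w * g⁻¹) := by rw [h3]; group
      · have e : g * v * g⁻¹ * (g * w * g⁻¹) = g * (v * w) * g⁻¹ := by group
        rw [e]; exact (isConj_conj_iff g).mpr h4
  rw [e, Set.ncard_image_of_injective _ (MulAut.conj g).injective]

theorem pairSet_code (R : Rep z ι) {Pc : List ℕ}
    (hP : ∀ y, invC y = true → (isP Pc y = true ↔ IsConj z (ι y)))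
    {a b : ℕ} (oa : ok a = true) (ob : ok b = true) (hz : a = zc ∨ b = zc) :
    (pairSet z (ι a) (ι b)).ncard = pairCount Pc a b := by
  classical
  set L := invCodes.filter fun y => comC y a && comC y b && isP Pc y && fusedC Pc (cmul b y)
  have hL : ∀ y ∈ L, ok y = true := fun y hy => invC_ok (mem_invCodes.mp (List.mem_filter.mp hy).1)
  have e : pairSet z (ι a) (ι b) = ι '' (L.toFinset : Set ℕ) := by
    ext w
    simp only [Set.mem_image, List.coe_toFinset, Set.mem_setOf_eq, pairSet]
    constructor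
    · rintro ⟨h1, h2, h3, h4⟩
      have hwz : w * z = z * w := by
        rcases hz with rfl | rfl
        · rwa [R.z_eq] at h2
        · rwa [R.z_eq] at h3
      obtain ⟨g, rfl⟩ := isConj_iff.mp h1
      obtain ⟨y, hy, hye⟩ := R.code_of_invol hwz (by
          calc g * z * g⁻¹ * (g * z * g⁻¹) = g * (z * z) * g⁻¹ := by group
            _ = 1 := by rw [z_sq R]; group) (fun e => not_isConj_one R (e ▸ h1))
      have oy := invC_ok hy
      rw [← hye] at h1 h2 h3 h4
      refine ⟨y, List.mem_filter.mpr ⟨mem_invCodes.mpr hy, ?_⟩, hye⟩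
      have c1 := (R.commute_iff oy oa).mpr h2
      have c2 := (R.commute_iff oy ob).mpr h3
      rw [← R.hmul _ _ ob oy] at h4
      have o2 := ok_cmul ob oy
      have i2 : invC (cmul b y) = true := by
        obtain ⟨g', hg'⟩ := isConj_iff.mp h4
        obtain ⟨y', hy', e'⟩ := R.code_of_invol (R.comm o2) (by
            rw [← hg']
            calc g' * z * g'⁻¹ * (g' * z * g'⁻¹) = g' * (z * z) * g'⁻¹ := by group
              _ = 1 := by rw [z_sq R]; group) (fun e => not_isConj_one R (e ▸ h4))
        rwa [← R.inj _ _ (invC_ok hy') o2 e']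
      simp [comC, c1, c2, fusedC, (hP _ hy).mpr h1, i2, (hP _ i2).mpr h4]
    · rintro ⟨y, hy, rfl⟩
      obtain ⟨hy, h⟩ := List.mem_filter.mp hy
      simp only [comC, fusedC, Bool.and_eq_true, beq_iff_eq] at h
      obtain ⟨⟨⟨c1, c2⟩, hp⟩, i2, hp2⟩ := h
      have hy' := mem_invCodes.mp hy
      have oy := invC_ok hy'
      refine ⟨(hP _ hy').mp hp, (R.commute_iff oy oa).mp c1, (R.commute_iff oy ob).mp c2, ?_⟩
      rw [← R.hmul _ _ ob oy]
      exact (hP _ i2).mp hp2
  rw [e, Set.InjOn.ncard_image, Set.ncard_coe_finset,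
    List.toFinset_card_of_nodup (invCodes_nodup.filter _)]
  · rfl
  · intro x hx y hy h
    simp only [List.coe_toFinset, Set.mem_setOf_eq] at hx hy
    exact R.inj _ _ (hL x hx) (hL y hy) h

/-- A fused class and an element moving its representative to the centre. -/
theorem fused_class (R : Rep z ι) {r : ℕ} (hr : r < 7) (hf : IsConj z (ι (invReps.getD r 0))) :
    ∃ g : G, g * ι (invReps.getD r 0) * g⁻¹ = z ∧ ∃ r' < 7, IsConj z (ι (invReps.getD r' 0)) ∧
      ∃ c, ok c = true ∧ g * z * g⁻¹ = ι c * ι (invReps.getD r' 0) * (ι c)⁻¹ := by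
  have h := range_all invReps_invC hr
  simp only [Bool.and_eq_true, Bool.not_eq_true', beq_eq_false_iff_ne] at h
  set x := invReps.getD r 0
  have ox := invC_ok h.1
  obtain ⟨g, hg⟩ := isConj_iff.mp hf.symm
  refine ⟨g, hg, ?_⟩
  have hc : g * z * g⁻¹ * z = z * (g * z * g⁻¹) := by
    have e := R.comm ox
    calc g * z * g⁻¹ * z = g * (z * ι x) * g⁻¹ := by rw [← hg]; group
      _ = g * (ι x * z) * g⁻¹ := by rw [e]
      _ = z * (g * z * g⁻¹) := by rw [← hg]; group
  have hconj : IsConj z (g * z * g⁻¹) := isConj_iff.mpr ⟨g, rfl⟩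
  obtain ⟨b, hb, hbe⟩ := R.code_of_invol hc (by
      calc g * z * g⁻¹ * (g * z * g⁻¹) = g * (z * z) * g⁻¹ := by group
        _ = 1 := by rw [z_sq R]; group) (fun e => not_isConj_one R (e ▸ hconj))
  have hbz : b ≠ zc := by
    intro e
    refine h.2 (R.inj _ _ ox ok_zc ?_)
    rw [R.z_eq]
    rw [e, R.z_eq] at hbe
    exact mul_left_cancel (mul_right_cancel (hg.trans hbe))
  obtain ⟨hr', c, oc, hce⟩ := cls_spec hb hbz
  refine ⟨cls b, hr', ?_, c, oc, by rw [← hbe, ← R.conj_eq oc (invReps_ok hr'), hce]⟩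
  rw [← isConj_conj_iff (z := z) (ι c), ← R.conj_eq oc (invReps_ok hr'), hce, hbe]
  exact hconj

/-- If no class in the largest normal two-subgroup is fused, the central involution is isolated. -/
theorem isolated_of_unfused [Finite G] (R : Rep z ι) (hA : ¬ IsConj z (ι cA))
    (hB : ¬ IsConj z (ι cB)) : IsIsolatedInvolution z := by
  classical
  have z2 : orderOf z = 2 := orderOf_eq_prime (by rw [sq, z_sq R]) R.z_ne_one
  set F : ℕ → Prop := fun r => IsConj z (ι (invReps.getD r 0))
  obtain ⟨e0, e1, e2, -⟩ := invReps_head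
  have f0 : ¬ F 0 := by simpa only [F, e0] using hA
  have f1 : ¬ F 1 := by simpa only [F, e1] using hB
  have f2 : ¬ F 2 := by simpa only [F, e2] using not_fused_cAB R
  have f4 : ¬ F 4 := by
    intro hf
    obtain ⟨g, hg, r', hr', hF', c, oc, hw⟩ := fused_class R (by norm_num) hf
    have h3 : 3 ≤ r' := by
      by_contra hlt
      interval_cases r' <;> contradiction
    obtain ⟨j, rfl⟩ : ∃ j, r' = j + 3 := ⟨r' - 3, by omega⟩
    have hd := range_all rootsZ_ok (show j < 4 by omega)
    simp only [Bool.and_eq_true, beq_iff_eq, comC] at hd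
    set d := rootsZ.getD j 0
    have orr := invReps_ok hr'
    have hdz : ι d * ι d = z := by rw [← R.hmul _ _ hd.1.1 hd.1.1, hd.1.2, R.z_eq]
    have hdr := (R.commute_iff hd.1.1 orr).mp hd.2
    set k := g⁻¹ * (ι c * ι d * (ι c)⁻¹) * g
    have hk : k * z = z * k := by
      calc k * z = g⁻¹ * (ι c * ι d * (ι c)⁻¹ * (g * z * g⁻¹)) * g := by simp only [k]; group
        _ = g⁻¹ * (ι c * (ι d * ι (invReps.getD (j + 3) 0)) * (ι c)⁻¹) * g := by rw [hw]; group
        _ = g⁻¹ * (ι c * (ι (invReps.getD (j + 3) 0) * ι d) * (ι c)⁻¹) * g := by rw [hdr]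
        _ = g⁻¹ * (g * z * g⁻¹ * (ι c * ι d * (ι c)⁻¹)) * g := by rw [hw]; group
        _ = z * k := by simp only [k]; group
    have hk2 : k * k = ι (invReps.getD 4 0) := by
      calc k * k = g⁻¹ * (ι c * (ι d * ι d) * (ι c)⁻¹) * g := by simp only [k]; group
        _ = g⁻¹ * (z * ι c * (ι c)⁻¹) * g := by rw [hdz, R.comm oc]
        _ = g⁻¹ * z * g := by group
        _ = _ := by nth_rewrite 1 [← hg]; group
    obtain ⟨a, oa, ha⟩ := R.surj k hk
    rw [← ha, ← R.hmul _ _ oa oa] at hk2
    exact not_sq oa (R.inj _ _ (ok_cmul oa oa) (invReps_ok (by norm_num)) hk2)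
  refine ⟨z2, fun g hc => ?_⟩
  by_contra hne
  have hconj : IsConj z (g * z * g⁻¹) := isConj_iff.mpr ⟨g, rfl⟩
  obtain ⟨b, hb, hbe⟩ := R.code_of_invol hc.eq.symm (by
      calc g * z * g⁻¹ * (g * z * g⁻¹) = g * (z * z) * g⁻¹ := by group
        _ = 1 := by rw [z_sq R]; group) (fun e => not_isConj_one R (e ▸ hconj))
  have hbz : b ≠ zc := fun e => hne (by rw [← hbe, e, R.z_eq])
  have hbF : ∀ {x : ℕ}, invC x = true → x ≠ zc → (F (cls x) ↔ IsConj z (ι x)) := by
    intro x hx hxz
    obtain ⟨hr, c, oc, hce⟩ := cls_spec hx hxz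
    conv_rhs => rw [← hce, R.conj_eq oc (invReps_ok hr)]
    exact (isConj_conj_iff _).symm
  have hFb : F (cls b) := (hbF hb hbz).mpr (hbe ▸ hconj)
  set Pc := [3, 5, 6].filter fun r => decide (F r)
  have hmem : ∀ r < 7, (Pc.contains r = true ↔ F r) := by
    intro r hr
    simp only [Pc, List.contains_iff_mem, List.mem_filter, decide_eq_true_eq, List.mem_cons,
      List.not_mem_nil, or_false]
    refine ⟨fun h => h.2, fun h => ⟨?_, h⟩⟩
    interval_cases r <;> simp_all
  have hP : ∀ y, invC y = true → (isP Pc y = true ↔ IsConj z (ι y)) := by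
    intro y hy
    by_cases hyz : y = zc
    · subst hyz
      rw [R.z_eq]
      exact iff_of_true (by simp [isP]) (IsConj.refl z)
    · rw [← hbF hy hyz, ← hmem _ (cls_spec hy hyz).1]
      simp [isP, hyz]
  have hne' : Pc ≠ [] := by
    intro e
    have := (hmem _ (cls_spec hb hbz).1).mpr hFb
    simp [e] at this
  have hin : Pc ∈ outerSets := by
    revert hne'
    simp only [Pc, List.filter_cons, List.filter_nil]
    split_ifs <;> simp [outerSets]
  have hall := List.all_eq_true.mp outer_counts Pc hin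
  simp only [Bool.and_eq_true, List.all_eq_true, Bool.not_eq_true', beq_eq_false_iff_ne] at hall
  obtain ⟨hr, hcount⟩ := hall
  generalize hrdef : (bif Pc.contains 5 then 5 else bif Pc.contains 6 then 6 else 3) = r at hr hcount
  have hr7 : r < 7 := by
    have := List.contains_iff_mem.mp hr
    simp only [Pc, List.mem_filter, List.mem_cons, List.not_mem_nil, or_false] at this
    omega
  obtain ⟨g', hg', r', hr', hF', c, oc, hw⟩ := fused_class R hr7 ((hmem r hr7).mp hr)
  refine hcount r' (List.contains_iff_mem.mp ((hmem r' hr').mpr hF')) ?_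
  have o1 := invReps_ok hr7
  have o2 := invReps_ok hr'
  rw [← pairSet_code R hP ok_zc o1 (Or.inl rfl), ← pairSet_code R hP o2 ok_zc (Or.inr rfl), R.z_eq,
    ← pairSet_conj g' z (ι (invReps.getD r 0)), hg', hw]
  conv_lhs => arg 1; arg 3; rw [show z = ι c * z * (ι c)⁻¹ by rw [R.comm oc]; group]
  exact pairSet_conj _ _ _

theorem fused_of_simple [Finite G] [IsSimpleGroup G] (R : Rep z ι) :
    IsConj z (ι cA) ∨ IsConj z (ι cB) := by
  by_contra h
  push Not at h
  have hz := isolated_of_unfused R h.1 h.2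
  have hcomm := ZStar.commutatorsInCore_of_isolated hz
  rcases IsSimpleGroup.eq_bot_or_eq_top_of_normal (pPrimeCore 2 G)
    (Transfer.pPrimeCore_normal 2 G) |>.symm with e | e
  · have hodd := ZStar.odd_card_core (G := G)
    rw [e, Subgroup.card_top] at hodd
    have hd : 2 ∣ Nat.card G := hz.1 ▸ orderOf_dvd_natCard z
    exact (Nat.not_even_iff_odd.mpr hodd) (even_iff_two_dvd.mpr hd)
  · obtain ⟨a, oa, b, ob, hab⟩ : ∃ a, ok a = true ∧ ∃ b, ok b = true ∧ cmul a b ≠ cmul b a :=
      ⟨53376, by decide +kernel, 34996, by decide +kernel, by decide +kernel⟩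
    have hc : ∀ g : G, g * z = z * g := fun g => by
      have hg := hcomm g
      rw [e, Subgroup.mem_bot] at hg
      calc g * z = (z * g * z⁻¹ * g⁻¹)⁻¹ * (z * g) := by group
        _ = z * g := by rw [hg]; group
    rcases IsSimpleGroup.eq_bot_or_eq_top_of_normal (Subgroup.center G) inferInstance |>.symm
      with e' | e'
    · exact hab ((R.commute_iff oa ob).mpr
        (Subgroup.mem_center_iff.mp (e' ▸ Subgroup.mem_top (ι b)) (ι a)))
    · exact R.z_ne_one (Subgroup.mem_bot.mp (e' ▸ Subgroup.mem_center_iff.mpr hc))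

end CfsgLib.HeUnique
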