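import Cfsg.Agent.Lib.HeUnique.End.Steps
import Cfsg.Agent.Lib.HeUnique.End.Count
import Cfsg.Agent.Lib.HeUnique.End.DataStabTop

/-!
The case of the stabiliser: nothing lies outside.
-/

set_option autoImplicit false
set_option maxRecDepth 8000

open CfsgLib.HePres

namespace CfsgLib.HeUnique

/-- The fused classes. -/
def pcS : List ℕ := [0]
/-- The class with the small centralizer. -/
def sixC : ℕ := 43140
/-- An element of the second class commuting with it. -/
def sixE : ℕ := 34948
/-- An element of its class. -/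
def sixQ : ℕ := 35976

/-- Vectors below thirty-two. -/
def vec5 (n : ℕ) : Fin 5 → ZMod 2 := fun i => ((n / 2 ^ i.val % 2 : ℕ) : ZMod 2)

/-- The number of vectors fixed by a code. -/
def fixCount (x : ℕ) : ℕ :=
  ((List.range 32).filter fun n => (List.finRange 5).all fun i =>
    (mat x).mulVec (vec5 n) i == vec5 n i).length

theorem stab_routes : ((List.range 7).all fun r => routeOK [phiTab 2] (pathsStab.getD r ([], 0))
    (invReps.getD r 0) (bif r == 0 then zc else bif r == 1 || r == 3 then cB else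
      bif r == 5 then sixC else cAB)) = true := by
  decide +kernel

theorem stab_swap : invC sixC = true ∧ invC sixQ = true ∧ comC sixQ sixC = true ∧ cls sixC = 5 ∧
    cls sixQ = 5 ∧ cls (cmul sixC sixQ) = 3 ∧ sixQ ≠ zc ∧ sixC ≠ sixQ ∧ cmul sixC sixQ ≠ zc ∧
    invReps.getD 5 0 = sixC ∧ invReps.getD 1 0 = cB ∧ invReps.getD 2 0 = cAB ∧
    invReps.getD 3 0 ≠ zc := by
  decide +kernel

theorem stab_times_z : invScan (fun b => bif cls b == 0 || cls b == 5 then
    b == zc || (cls (cmul zc b) == cls b && !(cmul zc b == zc)) else true) = true := by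
  decide +kernel

theorem stab_none : invScan (fun b => isP pcS b || !(isP pcS (cmul zc b))) = true := by
  decide +kernel

theorem stab_move : ((List.range 2).all fun j =>
    let d := moveStab.getD j (0, 0, 0, 0, 0)
    let u := invReps.getD (j + 1) 0
    invC d.1 && isP pcS d.1 && comC d.1 u && ok d.2.1 && decide (d.2.2.1 < 1536) &&
      decide (d.2.2.2.1 < 1536) && (phiTab 2).get d.2.2.1 == (conj d.2.1 d.1, zc) &&
      (phiTab 2).get d.2.2.2.1 == (conj d.2.1 u, d.2.2.2.2)) = true := by
  decide +kernel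

/-- The check of one code for a moved class. -/
def moveOK (j c : ℕ) : Bool :=
  bif ok c then !(conj c (moveStab.getD j (0, 0, 0, 0, 0)).2.2.2.2 == invReps.getD (j + 1) 0) else true

theorem stab_move0_0 : CosetEnum.allUp (moveOK 0) 13 0 = true := by decide +kernel

theorem stab_move0_1 : CosetEnum.allUp (moveOK 0) 13 8192 = true := by decide +kernel

theorem stab_move0_2 : CosetEnum.allUp (moveOK 0) 13 16384 = true := by decide +kernel

theorem stab_move0_3 : CosetEnum.allUp (moveOK 0) 13 24576 = true := by decide +kernel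

theorem stab_move0_4 : CosetEnum.allUp (moveOK 0) 13 32768 = true := by decide +kernel

theorem stab_move0_5 : CosetEnum.allUp (moveOK 0) 13 40960 = true := by decide +kernel

theorem stab_move0_6 : CosetEnum.allUp (moveOK 0) 13 49152 = true := by decide +kernel

theorem stab_move0_7 : CosetEnum.allUp (moveOK 0) 13 57344 = true := by decide +kernel

theorem stab_move1_0 : CosetEnum.allUp (moveOK 1) 13 0 = true := by decide +kernel

theorem stab_move1_1 : CosetEnum.allUp (moveOK 1) 13 8192 = true := by decide +kernel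

theorem stab_move1_2 : CosetEnum.allUp (moveOK 1) 13 16384 = true := by decide +kernel

theorem stab_move1_3 : CosetEnum.allUp (moveOK 1) 13 24576 = true := by decide +kernel

theorem stab_move1_4 : CosetEnum.allUp (moveOK 1) 13 32768 = true := by decide +kernel

theorem stab_move1_5 : CosetEnum.allUp (moveOK 1) 13 40960 = true := by decide +kernel

theorem stab_move1_6 : CosetEnum.allUp (moveOK 1) 13 49152 = true := by decide +kernel

theorem stab_move1_7 : CosetEnum.allUp (moveOK 1) 13 57344 = true := by decide +kernel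

theorem stab_move_scan : ∀ j < 2, CosetEnum.allUp (moveOK j) 16 0 = true := by
  intro j hj
  interval_cases j
  · exact (allUp_join (allUp_join (allUp_join stab_move0_0 stab_move0_1 (by norm_num)) (allUp_join stab_move0_2 stab_move0_3 (by norm_num)) (by norm_num)) (allUp_join (allUp_join stab_move0_4 stab_move0_5 (by norm_num)) (allUp_join stab_move0_6 stab_move0_7 (by norm_num)) (by norm_num)) (by norm_num))
  · exact (allUp_join (allUp_join (allUp_join stab_move1_0 stab_move1_1 (by norm_num)) (allUp_join stab_move1_2 stab_move1_3 (by norm_num)) (by norm_num)) (allUp_join (allUp_join stab_move1_4 stab_move1_5 (by norm_num)) (allUp_join stab_move1_6 stab_move1_7 (by norm_num)) (by norm_num)) (by norm_num))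

theorem stab_six : invC sixE = true ∧ comC sixE sixC = true ∧ ok shiftStab = true ∧
    conj shiftStab sixE = cB ∧
    invScan (fun b => bif comC b sixC then
      !(cls b == 5) || b == zc || (!(b == sixC) && (!(cls (cmul sixC b) == 5) || cmul sixC b == zc)) ||
        (!(isP pcS (cmul zc b)) && invC (cmul zc b) && !(fixCount (cmul zc b) == fixCount sixE))
      else true) = true := by
  decide +kernel

theorem vec5_bij : (∀ n : Fin 32, ∀ m : Fin 32, vec5 n.val = vec5 m.val → n = m) ∧
    ∀ v : Fin 5 → ZMod 2, ∃ n : Fin 32, vec5 n.val = v := by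
  decide +kernel

theorem fixCount_eq (x : ℕ) :
    fixCount x = Nat.card {v : Fin 5 → ZMod 2 // (mat x).mulVec v = v} := by
  classical
  rw [Nat.card_eq_fintype_card, Fintype.card_subtype]
  unfold fixCount
  set p : ℕ → Bool := fun n => (List.finRange 5).all fun i => (mat x).mulVec (vec5 n) i == vec5 n i
  have hp : ∀ n, p n = true ↔ (mat x).mulVec (vec5 n) = vec5 n := fun n => by
    simp [p, funext_iff]
  rw [← List.toFinset_card_of_nodup (List.nodup_range.filter _)]
  refine Finset.card_bij (fun n _ => vec5 n) (fun n hn => ?_) (fun a ha b hb e => ?_) (fun v hv => ?_)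
  · simp only [List.mem_toFinset, List.mem_filter] at hn
    simp only [Finset.mem_filter, Finset.mem_univ, true_and]
    exact (hp n).mp hn.2
  · simp only [List.mem_toFinset, List.mem_filter, List.mem_range] at ha hb
    exact congrArg Fin.val (vec5_bij.1 ⟨a, ha.1⟩ ⟨b, hb.1⟩ e)
  · simp only [Finset.mem_filter, Finset.mem_univ, true_and] at hv
    obtain ⟨n, rfl⟩ := vec5_bij.2 v
    exact ⟨n.val, by simp only [List.mem_toFinset, List.mem_filter, List.mem_range]; exact ⟨n.2, (hp _).mpr hv⟩, rfl⟩

theorem fixCount_conj {x y : ℕ} (hx : ok x = true) (hy : ok y = true) {g : SL52}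
    (h : g * toSL x * g⁻¹ = toSL y) : fixCount x = fixCount y := by
  rw [fixCount_eq, fixCount_eq]
  set A := (g : Matrix (Fin 5) (Fin 5) (ZMod 2)) with hA
  set B := ((g⁻¹ : SL52) : Matrix (Fin 5) (Fin 5) (ZMod 2)) with hB
  have hAB : A * B = 1 := by
    rw [hA, hB, ← Matrix.SpecialLinearGroup.coe_mul, mul_inv_cancel]; rfl
  have hBA : B * A = 1 := by
    rw [hA, hB, ← Matrix.SpecialLinearGroup.coe_mul, inv_mul_cancel]; rfl
  have hy' : A * mat x * B = mat y := by
    rw [← mat_toSL hx, ← mat_toSL hy, ← h, Matrix.SpecialLinearGroup.coe_mul,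
      Matrix.SpecialLinearGroup.coe_mul]
  refine Nat.card_congr
    { toFun := fun v => ⟨A.mulVec v.1, by
        rw [← hy', Matrix.mulVec_mulVec, mul_assoc, hBA, mul_one, ← Matrix.mulVec_mulVec, v.2]⟩
      invFun := fun v => ⟨B.mulVec v.1, by
        have e : mat x * B = B * mat y := by
          rw [← hy', ← mul_assoc, ← mul_assoc, hBA, one_mul]
        rw [Matrix.mulVec_mulVec, e, ← Matrix.mulVec_mulVec, v.2]⟩
      left_inv := fun v => Subtype.ext (by simp [Matrix.mulVec_mulVec, hBA])
      right_inv := fun v => Subtype.ext (by simp [Matrix.mulVec_mulVec, hAB]) }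

variable {G : Type*} [Group G] [Finite G] {z : G} {ι : ℕ → G}

theorem stab_ctx (R : Rep z ι) (hA : IsConj z (ι cA)) (hB : ¬ IsConj z (ι cB)) {H : Subgroup G}
    (hC : ∀ g : G, g * z = z * g → g ∈ H) (h11 : ¬ 2 ^ 11 ∣ Nat.card H) {s : G} (hs : s ∈ H)
    (ht : TabAct ι (phiTab 2) s) : Ctx z ι H pcS := by
  have hts : ∀ k < [phiTab 2].length, ∃ t ∈ H, TabAct ι ([phiTab 2].getD k tabA) t := by
    intro k hk
    simp only [List.length_cons, List.length_nil] at hk
    interval_cases k
    exact ⟨s, hs, ht⟩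
  obtain ⟨hsix, hq, hcq, c5, cq, cprod, qz, sq', pz, r5, r1, r2, r3z⟩ := stab_swap
  have hr : ∀ r < 7, r = 1 ∨ r = 3 ∨ r = 2 ∨ r = 4 ∨ r = 6 →
      ¬ IsConj z (ι (invReps.getD r 0)) := by
    intro r hr7 hr
    have h' := range_all stab_routes hr7
    rcases hr with rfl | rfl | rfl | rfl | rfl
    all_goals
      simp only [show ((1 : ℕ) == 0) = false from rfl, show ((3 : ℕ) == 0) = false from rfl,
        show ((2 : ℕ) == 0) = false from rfl, show ((4 : ℕ) == 0) = false from rfl,
        show ((6 : ℕ) == 0) = false from rfl, show ((3 : ℕ) == 1) = false from rfl,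
        show ((2 : ℕ) == 1) = false from rfl, show ((2 : ℕ) == 3) = false from rfl,
        show ((4 : ℕ) == 1) = false from rfl, show ((4 : ℕ) == 3) = false from rfl,
        show ((6 : ℕ) == 1) = false from rfl, show ((6 : ℕ) == 3) = false from rfl,
        show ((2 : ℕ) == 5) = false from rfl, show ((4 : ℕ) == 5) = false from rfl,
        show ((6 : ℕ) == 5) = false from rfl,
        beq_self_eq_true, Bool.or_false, Bool.or_true, Bool.true_or, cond_false, cond_true] at h'
      obtain ⟨g, -, he⟩ := routeOK_spec R hC hts (invReps_ok hr7) h'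
      intro hh
      first
        | exact hB (hh.trans (isConj_iff.mpr ⟨g, he⟩))
        | exact not_fused_cAB R (hh.trans (isConj_iff.mpr ⟨g, he⟩))
  -- the class with the small centralizer
  have hfive : ¬ IsConj z (ι sixC) := by
    intro h6
    have repP : ∀ {x : ℕ}, invC x = true → x ≠ zc →
        (IsConj z (ι x) ↔ IsConj z (ι (invReps.getD (cls x) 0))) := by
      intro x hx hz
      obtain ⟨hr, c, oc, hc⟩ := cls_spec hx hz
      have e := R.conj_eq oc (invReps_ok hr)
      rw [hc] at e
      rw [e]; exact isConj_conj_iff _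
    have hq6 : IsConj z (ι sixQ) := by rw [repP hq qz, cq, r5]; exact h6
    have oq := invC_ok hq; have o6 := invC_ok hsix
    simp only [comC, beq_iff_eq] at hcq
    have hprod : ¬ IsConj z (ι sixC * ι sixQ) := by
      rw [← R.hmul _ _ o6 oq, repP (invC_mul hsix hq hcq.symm sq') pz, cprod]
      exact hr 3 (by norm_num) (by simp)
    obtain ⟨g, hg⟩ := isConj_iff.mp h6
    obtain ⟨b, hb, hbe⟩ := R.code_of_invol (w := g⁻¹ * ι sixQ * g) (by
        calc g⁻¹ * ι sixQ * g * z = g⁻¹ * (ι sixQ * (g * z * g⁻¹)) * g := by group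
          _ = g⁻¹ * (g * z * g⁻¹ * ι sixQ) * g := by rw [hg, (R.commute_iff oq o6).mp hcq]
          _ = _ := by group) (by
        calc g⁻¹ * ι sixQ * g * (g⁻¹ * ι sixQ * g) = g⁻¹ * (ι sixQ * ι sixQ) * g := by group
          _ = 1 := by rw [(R.invol hq).1]; group) (fun e => (R.invol hq).2 (by
        calc ι sixQ = g * (g⁻¹ * ι sixQ * g) * g⁻¹ := by group
          _ = 1 := by rw [e]; group))
    have ob := invC_ok hb
    have hbz : b ≠ zc := fun e => by
      rw [e, R.z_eq] at hbe
      refine sq' (R.inj _ _ o6 oq ?_)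
      rw [← hg]; nth_rewrite 1 [hbe]; group
    have hbP : IsConj z (ι b) := by
      rw [hbe]
      simpa using (isConj_conj_iff (z := z) (x := ι sixQ) g⁻¹).mpr hq6
    obtain ⟨hr7, -⟩ := cls_spec hb hbz
    have hcls : cls b = 0 ∨ cls b = 5 := by
      by_contra hh
      exact hr _ hr7 (by omega) ((repP hb hbz).mp hbP)
    have hs' := invScan_spec stab_times_z hb
    have hcond : (cls b == 0 || cls b == 5) = true := by
      rcases hcls with e | e <;> simp [e]
    simp only [hcond, cond_true, Bool.or_eq_true, beq_iff_eq, hbz, false_or, Bool.and_eq_true,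
      Bool.not_eq_true', beq_eq_false_iff_ne] at hs'
    apply hprod
    have hzb : IsConj z (z * ι b) := by
      rw [← R.z_eq, ← R.hmul _ _ ok_zc ob, R.z_eq,
        repP (invC_mul invC_zc hb (zc_comm ob).symm hbz.symm) hs'.2, hs'.1]
      exact (repP hb hbz).mp hbP
    rw [show ι sixC * ι sixQ = g * (z * ι b) * g⁻¹ by rw [hbe, ← hg]; group]
    exact (isConj_conj_iff g).mpr hzb
  refine ⟨hC, comm_of_card R hC h11, fun r hr7 hP => ?_, fun r hr7 hP => ?_⟩
  · have h0 : r = 0 := by simpa [pcS] using hP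
    subst h0
    have h' := range_all stab_routes hr7
    simp only [beq_self_eq_true, cond_true] at h'
    obtain ⟨g, hg, he⟩ := routeOK_spec R hC hts (invReps_ok hr7) h'
    rw [R.z_eq] at he
    exact ⟨g⁻¹, H.inv_mem hg, by rw [← he]; group⟩
  · have h0 : r ≠ 0 := by simpa [pcS] using hP
    interval_cases r
    · exact absurd rfl h0
    all_goals first
      | (rw [r5]; exact hfive)
      | exact hr _ hr7 (by simp)

theorem stab_eq_top (R : Rep z ι) (hA : IsConj z (ι cA)) (hB : ¬ IsConj z (ι cB))
    (φ : StabGrp →* G) (hφ : Function.Injective φ)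
    (hι : ∀ c, ok c = true → φ (ιS c) = ι c) {s : G} (hs : s ∈ φ.range)
    (ht : TabAct ι (phiTab 2) s) (h11 : ¬ 2 ^ 11 ∣ Nat.card φ.range) : φ.range = ⊤ := by
  have hC : ∀ g : G, g * z = z * g → g ∈ φ.range := fun g hg => by
    obtain ⟨x, ox, rfl⟩ := R.surj g hg
    exact ⟨ιS x, hι x ox⟩
  have D := stab_ctx R hA hB hC h11 hs ht
  have hts : ∀ k < [phiTab 2].length, ∃ t ∈ φ.range, TabAct ι ([phiTab 2].getD k tabA) t := by
    intro k hk
    simp only [List.length_cons, List.length_nil] at hk
    interval_cases k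
    exact ⟨s, hs, ht⟩
  obtain ⟨hsix, hq, hcq, c5, -, -, -, -, -, r5, r1, r2, -⟩ := stab_swap
  have hrepI : ∀ r < 7, invC (invReps.getD r 0) = true := by
    intro r hr
    have hall : ((List.range 7).all fun r => invC (invReps.getD r 0)) = true := by decide +kernel
    exact range_all hall hr
  have hone : ∀ j < 2, Fix φ.range (ι (invReps.getD (j + 1) 0)) := by
    intro j hj
    have hd := range_all stab_move hj
    set d := moveStab.getD j (0, 0, 0, 0, 0)
    set u := invReps.getD (j + 1) 0
    have ou : ok u = true := invReps_ok (by omega)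
    simp only [Bool.and_eq_true, comC, beq_iff_eq, decide_eq_true_eq] at hd
    obtain ⟨⟨⟨⟨⟨⟨⟨he, heP⟩, heu⟩, oc⟩, l1⟩, l2⟩, e1⟩, e2⟩ := hd
    have hne := stab_move_scan j hj
    have oe := invC_ok he
    refine fix_of_cent (D.fix_z R) (R.invol (hrepI _ (by omega))).1 (fun m hm => ?_) D.comm
    by_contra hm0
    set M := Subgroup.centralizer ({ι u} : Set G)
    have memM : ∀ g : G, g ∈ M ↔ g * ι u = ι u * g := fun g =>
      Subgroup.mem_centralizer_singleton_iff
    have heC := (R.commute_iff oe ou).mp heu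
    obtain ⟨o2, a1⟩ := ht _ l1
    obtain ⟨ou2, a2⟩ := ht _ l2
    rw [e1] at a1 o2
    rw [e2] at a2 ou2
    simp only at a1 a2 ou2
    rw [R.conj_eq oc oe, R.z_eq] at a1
    rw [R.conj_eq oc ou] at a2
    set k := s * ι d.2.1
    have hkz : k * ι d.1 * k⁻¹ = z := by
      rw [← a1]; simp only [k]; group
    have hku : k * ι u * k⁻¹ = ι d.2.2.2.2 := by
      rw [← a2]; simp only [k]; group
    have heF := D.fix_isP R he heP
    obtain ⟨w, -, w1, w2, hwz, hwe, hcase⟩ := pair_step (m := m) (G0 := φ.range) (z_sq R)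
      (R.invol he).1 ((memM z).mpr (R.comm ou).symm) D.zmem ((memM _).mpr heC) heF (by
        rintro ⟨g, -, hgM, hge⟩
        have hc : g * k⁻¹ * z = z * (g * k⁻¹) := by
          calc g * k⁻¹ * z = g * k⁻¹ * (k * ι d.1 * k⁻¹) := by rw [hkz]
            _ = g * ι d.1 * g⁻¹ * (g * k⁻¹) := by group
            _ = z * (g * k⁻¹) := by rw [hge]
        obtain ⟨c, ocx, hcx⟩ := R.surj _ hc
        have hs' := CosetEnum.allUp_spec hne c (Nat.zero_le _) (by
          have := ok_lt ocx; norm_num; omega)
        simp only [moveOK, ocx, cond_true, Bool.not_eq_true', beq_eq_false_iff_ne] at hs'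
        refine hs' (R.inj _ _ (ok_conj ocx ou2) ou ?_)
        rw [R.conj_eq ocx ou2, hcx, ← hku]
        calc g * k⁻¹ * (k * ι u * k⁻¹) * (g * k⁻¹)⁻¹ = g * ι u * g⁻¹ := by group
          _ = ι u := by rw [(memM g).mp hgM]; group) ((memM m).mpr hm)
    have hwG := D.cent w hwz
    have hzw : IsConj z (z * w) := by
      rcases hcase with ⟨⟨g, -, hg⟩, -⟩ | ⟨g, -, hg⟩
      · exact isConj_iff.mpr ⟨g, hg⟩
      · rw [← hg]; exact (isConj_conj_iff g).mpr ((D.P_iff R he).mp heP)
    obtain ⟨b, hb, hbe⟩ := R.code_of_invol hwz w2 w1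
    have hnw : ¬ IsConj z w := fun hh =>
      hm0 (mem_of_moved heF (D.fix_of_isConj R hwG hh) hwG hwe)
    have hbz : b ≠ zc := fun e => hnw (by rw [← hbe, e, R.z_eq])
    have hs' := invScan_spec stab_none hb
    have p1 : isP pcS b = false := by
      rw [← Bool.not_eq_true, D.P_iff R hb, hbe]; exact hnw
    have p2 : isP pcS (cmul zc b) = true := by
      rw [D.P_mul R invC_zc hb (zc_comm (invC_ok hb)).symm hbz.symm, R.z_eq, hbe]; exact hzw
    simp [p1, p2] at hs'
  have hroute : ∀ r < 7, r ≠ 0 → r ≠ 5 → Fix φ.range (ι (invReps.getD r 0)) := by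
    intro r hr h0 h5
    have h' := range_all stab_routes hr
    obtain ⟨g, hg, he⟩ := routeOK_spec R hC hts (invReps_ok hr) h'
    refine Fix.of_conj hg ?_
    rw [he]
    simp only [beq_eq_false_iff_ne.mpr h0, beq_eq_false_iff_ne.mpr h5, cond_false]
    cases hc : (r == 1 || r == 3) with
    | true => rw [cond_true, ← r1]; exact hone 0 (by norm_num)
    | false => rw [cond_false, ← r2]; exact hone 1 (by norm_num)
  have hfix6 : Fix φ.range (ι sixC) := by
    obtain ⟨he, heu, osh, hsh, hscan⟩ := stab_six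
    have oe := invC_ok he; have ou := invC_ok hsix
    simp only [comC, beq_iff_eq] at heu
    have hec := (R.commute_iff oe ou).mp heu
    have hBI : invC cB = true := r1 ▸ hrepI 1 (by norm_num)
    have hBP : isP pcS cB = false := by decide +kernel
    have eB : ι cB = ι shiftStab * ι sixE * (ι shiftStab)⁻¹ := by rw [← hsh, R.conj_eq osh oe]
    have heF : Fix φ.range (ι sixE) := by
      refine Fix.of_conj (D.mem R osh) ?_
      rw [← eB, ← r1]
      exact hone 0 (by norm_num)
    have heP : ¬ IsConj z (ι sixE) := fun hh => hB (by rw [eB]; exact (isConj_conj_iff _).mpr hh)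
    refine fix_of_cent (D.fix_z R) (R.invol hsix).1 (fun m hm => ?_) D.comm
    by_contra hm0
    set M := Subgroup.centralizer ({ι sixC} : Set G)
    have memM : ∀ g : G, g ∈ M ↔ g * ι sixC = ι sixC * g := fun g =>
      Subgroup.mem_centralizer_singleton_iff
    obtain ⟨w, hwM, w1, w2, hwz, hwe, hcase⟩ := pair_step (m := m) (G0 := φ.range) (z_sq R)
      (R.invol he).1 ((memM z).mpr (R.comm ou).symm) D.zmem ((memM _).mpr hec) heF
      (fun ⟨g, _, _, hge⟩ => heP (isConj_iff.mpr ⟨g, hge⟩).symm) ((memM m).mpr hm)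
    have hwG := D.cent w hwz
    have hwu := (memM w).mp hwM
    obtain ⟨b, hb, hbe⟩ := R.code_of_invol hwz w2 w1
    have ob := invC_ok hb
    have hbu : cmul b sixC = cmul sixC b := by rw [R.commute_iff ob ou, hbe, hwu]
    have hs' := invScan_spec hscan hb
    simp only [comC, hbu, beq_self_eq_true, cond_true, Bool.or_eq_true, Bool.not_eq_true',
      beq_eq_false_iff_ne, beq_iff_eq, Bool.and_eq_true] at hs'
    have notG : ∀ {y : ℕ}, invC y = true → (y = zc ∨ cls y ≠ 5) → ι y * (m * ι sixE * m⁻¹) =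
        m * ι sixE * m⁻¹ * ι y → False := by
      intro y hy hcl hc
      refine hm0 (mem_of_moved heF ?_ (D.mem R (invC_ok hy)) hc)
      by_cases hyz : y = zc
      · subst hyz; rw [R.z_eq]; exact D.fix_z R
      obtain ⟨hr7, c, oc, hce⟩ := cls_spec hy hyz
      rw [← hce, R.conj_eq oc (invReps_ok hr7)]
      refine Fix.conj ?_ (D.mem R oc)
      by_cases h0 : cls y = 0
      · obtain ⟨g, hg, hge⟩ := D.pos _ hr7 (by rw [h0]; rfl)
        rw [← hge]; exact (D.fix_z R).conj hg
      · exact hroute _ hr7 h0 (hcl.resolve_left hyz)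
    have hwe' : ι b * (m * ι sixE * m⁻¹) = m * ι sixE * m⁻¹ * ι b := by rw [hbe, hwe]
    rcases hs' with ((hs' | hs') | ⟨hne, hs'⟩) | ⟨⟨hnp, hzb⟩, hfc⟩
    · exact notG hb (Or.inr hs') hwe'
    · exact notG hb (Or.inl hs') hwe'
    · have hmu : ι sixC * (m * ι sixE * m⁻¹) = m * ι sixE * m⁻¹ * ι sixC := by
        calc ι sixC * (m * ι sixE * m⁻¹) = (ι sixC * m) * ι sixE * m⁻¹ := by group
          _ = m * (ι sixC * ι sixE) * m⁻¹ := by rw [← hm]; group
          _ = m * ι sixE * (ι sixC * m⁻¹) := by rw [← hec]; group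
          _ = m * ι sixE * (m⁻¹ * (m * ι sixC) * m⁻¹) := by group
          _ = _ := by rw [hm]; group
      refine notG (invC_mul hsix hb hbu.symm (Ne.symm hne)) (hs'.symm) ?_
      rw [R.hmul _ _ ou ob, mul_assoc, hwe', ← mul_assoc, hmu, mul_assoc]
    · have hzbP : ¬ IsConj z (z * ι b) := by
        rw [← R.z_eq, ← R.hmul _ _ ok_zc ob, R.z_eq, ← D.P_iff R hzb, hnp]
        exact Bool.noConfusion
      rcases hcase with ⟨⟨g, -, hg⟩, -⟩ | ⟨g, -, hg⟩
      · exact hzbP (by rw [hbe]; exact isConj_iff.mpr ⟨g, hg⟩)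
      · have hgG : g ∈ φ.range := heF g (by rw [hg]; exact φ.range.mul_mem D.zmem hwG)
        obtain ⟨γ, rfl⟩ := hgG
        have oz := invC_ok hzb
        have hγ : γ * ιS sixE * γ⁻¹ = ιS (cmul zc b) := hφ (by
          rw [map_mul, map_mul, map_inv, hι _ oe, hι _ oz, R.hmul _ _ ok_zc ob, R.z_eq, hbe]
          exact hg)
        have h2 := congrArg (fun p : StabGrp => (p : SL52)) hγ
        simp only [Subgroup.coe_mul, Subgroup.coe_inv, coe_ιS oe, coe_ιS oz, evalStab_ι] at h2
        exact hfc (fixCount_conj oe oz h2).symm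
  refine D.eq_top R hsix ?_ fun r hr hP => ?_
  · rw [← Bool.not_eq_true, D.P_iff R hsix, ← r5]
    exact D.neg 5 (by norm_num) (by decide)
  · by_cases h5 : r = 5
    · subst h5; rw [r5]; exact hfix6
    · exact hroute r hr (by simpa [pcS] using hP) h5

end CfsgLib.HeUnique
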