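import Cfsg.Agent.Lib.HeUnique.End.Class

/-!
Centralizers of involutions inside, from pairs of conjugates of the central involution.
-/

set_option autoImplicit false

namespace CfsgLib.HeUnique

variable {G : Type*} [Group G] {z : G} {ι : ℕ → G} {G0 : Subgroup G} {Pc : List ℕ}

theorem isConj_conj_iff {x : G} (g : G) : IsConj z (g * x * g⁻¹) ↔ IsConj z x :=
  ⟨fun h => h.trans (isConj_iff.mpr ⟨g, rfl⟩).symm, fun h => h.trans (isConj_iff.mpr ⟨g, rfl⟩)⟩

theorem Ctx.P_iff (D : Ctx z ι G0 Pc) (R : Rep z ι) {x : ℕ} (hx : invC x = true) :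
    isP Pc x = true ↔ IsConj z (ι x) := by
  refine ⟨fun h => ?_, fun h => ?_⟩
  · obtain ⟨g, -, hg⟩ := (D.isP_iff R hx).1 h
    exact isConj_iff.mpr ⟨g, hg⟩
  · cases hP : isP Pc x with
    | true => rfl
    | false => exact ((D.isP_iff R hx).2 hP h).elim

theorem not_isConj_one (R : Rep z ι) : ¬ IsConj z (1 : G) := fun h => R.z_ne_one (by
  obtain ⟨g, hg⟩ := isConj_iff.mp h
  calc z = g⁻¹ * (g * z * g⁻¹) * g := by group
    _ = 1 := by rw [hg]; group)

/-- Involutions or the identity. -/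
theorem invC_mul {x y : ℕ} (hx : invC x = true) (hy : invC y = true)
    (h : cmul x y = cmul y x) (hne : x ≠ y) : invC (cmul x y) = true := by
  simp only [invC, Bool.and_eq_true, beq_iff_eq, Bool.not_eq_true', beq_eq_false_iff_ne] at hx hy ⊢
  obtain ⟨⟨ox, x2⟩, -⟩ := hx
  obtain ⟨⟨oy, y2⟩, -⟩ := hy
  refine ⟨⟨ok_cmul ox oy, ?_⟩, fun e => hne ?_⟩
  · rw [cmul_assoc ox oy (ok_cmul ox oy), ← cmul_assoc oy ox oy, ← h, cmul_assoc ox oy oy, y2,
      (cmul_one ox).1, x2]
  · have := congrArg (fun t => cmul t y) e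
    simpa [cmul_assoc ox oy oy, y2, (cmul_one ox).1, (cmul_one oy).2] using this

/-- A positive code product. -/
theorem Ctx.P_mul (D : Ctx z ι G0 Pc) (R : Rep z ι) {x y : ℕ} (hx : invC x = true)
    (hy : invC y = true) (hc : cmul x y = cmul y x) (hne : x ≠ y) :
    isP Pc (cmul x y) = true ↔ IsConj z (ι x * ι y) := by
  rw [D.P_iff R (invC_mul hx hy hc hne), R.hmul _ _ (invC_ok hx) (invC_ok hy)]

theorem invC_zc : invC zc = true := by decide +kernel

theorem invC_conj {c x : ℕ} (hc : ok c = true) (hx : invC x = true) (R : Rep z ι) :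
    invC (conj c x) = true := by
  have hi := R.invol hx
  have ox := invC_ok hx
  simp only [invC, Bool.and_eq_true, beq_iff_eq, Bool.not_eq_true', beq_eq_false_iff_ne]
  refine ⟨⟨ok_conj hc ox, R.inj _ _ (ok_cmul (ok_conj hc ox) (ok_conj hc ox)) ok_one ?_⟩, fun e => hi.2 ?_⟩
  · rw [R.hmul _ _ (ok_conj hc ox) (ok_conj hc ox), R.conj_eq hc ox, R.hone]
    calc ι c * ι x * (ι c)⁻¹ * (ι c * ι x * (ι c)⁻¹) = ι c * (ι x * ι x) * (ι c)⁻¹ := by group
      _ = 1 := by rw [hi.1]; group
  · have := congrArg ι e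
    rw [R.conj_eq hc ox, R.hone] at this
    calc ι x = (ι c)⁻¹ * (ι c * ι x * (ι c)⁻¹) * ι c := by group
      _ = 1 := by rw [this]; group

/-- An element commuting with one that fixes one coset. -/
theorem mem_of_moved {e m w : G} (heF : Fix G0 e) (hwF : Fix G0 w) (hwG : w ∈ G0)
    (hc : w * (m * e * m⁻¹) = (m * e * m⁻¹) * w) : m ∈ G0 :=
  heF m (hwF.cent hwG hc.symm)

/-- The checks of the first step. -/
noncomputable def firstOK (Pc : List ℕ) (u w0 e : ℕ) : Bool :=
  invC u && invC w0 && invC e && comC w0 u && comC e u && !(e == u) && !(u == zc) &&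
  !(isP Pc u) && !(isP Pc (cmul zc u)) && isP Pc e && isP Pc (cmul e u) &&
  invScan (fun b => bif comC b u then
    isP Pc b || isP Pc (cmul u b) || !(isP Pc (cmul zc b)) || !(isP Pc (cmul (cmul zc b) u)) ||
      b == w0 || b == cmul u w0 else true) &&
  (List.range 7).all (fun r => let a := invReps.getD r 0
    Pc.contains r || !(isP Pc (cmul zc a)) || invScan (fun b => bif comC b a then
      b == a || isP Pc b || isP Pc (cmul a b) || !(isP Pc (cmul zc b)) ||
        !(isP Pc (cmul (cmul zc a) b)) else true))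

/-- The centralizer of an involution from that of a four-group. -/
theorem cent_of_first [Finite G] (D : Ctx z ι G0 Pc) (R : Rep z ι) {u w0 e : ℕ}
    (h : firstOK Pc u w0 e = true)
    (hV : ∀ g : G, g * ι u = ι u * g → g * ι w0 = ι w0 * g → g ∈ G0) :
    ∀ g : G, g * ι u = ι u * g → g ∈ G0 := by
  simp only [firstOK, comC, Bool.and_eq_true, beq_iff_eq, Bool.not_eq_true',
    beq_eq_false_iff_ne] at h
  obtain ⟨⟨⟨⟨⟨⟨⟨⟨⟨⟨⟨⟨hu, hw0⟩, he⟩, hwu⟩, heu⟩, hne⟩, huz⟩, hnP⟩, hzuP⟩, heP⟩, heuP⟩, hO⟩, hE⟩ := h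
  have ou := invC_ok hu; have ow := invC_ok hw0; have oe := invC_ok he
  obtain ⟨u2, u1⟩ := R.invol hu
  have hnu : ¬ IsConj z (ι u) := (D.isP_iff R hu).2 hnP
  have hzu : ¬ IsConj z (z * ι u) := by
    intro hh
    rw [(D.P_mul R invC_zc hu (zc_comm ou).symm huz.symm).mpr (by rwa [R.z_eq])] at hzuP
    exact Bool.noConfusion hzuP
  have hzeu : IsConj z (ι e * ι u) := (D.P_mul R he hu heu hne).mp heuP
  have heF : Fix G0 (ι e) := D.fix_isP R he heP
  have heC : ι e * ι u = ι u * ι e := (R.commute_iff oe ou).mp heu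
  intro m hm
  by_contra hm0
  set M := Subgroup.centralizer ({ι u} : Set G)
  have memM : ∀ g : G, g ∈ M ↔ g * ι u = ι u * g := fun g => Subgroup.mem_centralizer_singleton_iff
  have hzM : z ∈ M := (memM z).mpr (R.comm ou).symm
  obtain ⟨w, hwM, w1, w2, hwz, hwe, hcase⟩ := pair_step (m := m) (G0 := G0) (z_sq R)
    (R.invol he).1 hzM D.zmem ((memM _).mpr heC) heF (by
      rintro ⟨g, -, hg, hge⟩
      refine hzu ?_
      rw [show z * ι u = g * (ι e * ι u) * g⁻¹ by
        calc z * ι u = g * ι e * g⁻¹ * ι u := by rw [hge]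
          _ = g * ι e * (g⁻¹ * ι u * g) * g⁻¹ := by group
          _ = g * (ι e * ι u) * g⁻¹ := by
            rw [mul_assoc g⁻¹, ← (memM g).mp hg]; group]
      exact (isConj_conj_iff g).mpr hzeu) ((memM m).mpr hm)
  have hwu' : w * ι u = ι u * w := (memM w).mp hwM
  have hwG : w ∈ G0 := D.cent w hwz
  have huG : ι u ∈ G0 := D.mem R ou
  have hmu : ι u * (m * ι e * m⁻¹) = m * ι e * m⁻¹ * ι u := by
    calc ι u * (m * ι e * m⁻¹) = (ι u * m) * ι e * m⁻¹ := by group
      _ = m * (ι u * ι e) * m⁻¹ := by rw [← hm]; group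
      _ = m * ι e * (ι u * m⁻¹) := by rw [← heC]; group
      _ = m * ι e * (m⁻¹ * (m * ι u) * m⁻¹) := by group
      _ = _ := by rw [hm]; group
  have hnw : ¬ IsConj z w := fun hh =>
    hm0 (mem_of_moved heF (D.fix_of_isConj R hwG hh) hwG hwe)
  have hnuw : ¬ IsConj z (ι u * w) := fun hh =>
    hm0 (mem_of_moved heF (D.fix_of_isConj R (G0.mul_mem huG hwG) hh) (G0.mul_mem huG hwG) (by
      rw [mul_assoc, hwe, ← mul_assoc, hmu, mul_assoc]))
  rcases hcase with ⟨⟨g1, hg1, hz1⟩, g2, hg2, he2⟩ | ⟨g, hg, hge⟩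
  · -- both conjugate to their translates
    set v := m⁻¹ * w * m with hv
    have hvu : v * ι u = ι u * v :=
      (memM v).mp (M.mul_mem (M.mul_mem (M.inv_mem ((memM m).mpr hm)) hwM) ((memM m).mpr hm))
    have hev : ι e * v = v * ι e := by
      calc ι e * v = m⁻¹ * ((m * ι e * m⁻¹) * w) * m := by rw [hv]; group
        _ = m⁻¹ * (w * (m * ι e * m⁻¹)) * m := by rw [hwe]
        _ = v * ι e := by rw [hv]; group
    have hP1 : IsConj z (ι e * v) := by
      rw [← he2]; exact (isConj_conj_iff g2).mpr ((D.P_iff R he).mp heP)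
    have hP2 : IsConj z (ι e * ι u * v) := by
      rw [show ι e * ι u * v = g2 * (ι e * ι u) * g2⁻¹ by
        calc ι e * ι u * v = ι e * v * ι u := by rw [mul_assoc, ← hvu, ← mul_assoc]
          _ = g2 * ι e * g2⁻¹ * ι u := by rw [he2]
          _ = g2 * ι e * (g2⁻¹ * ι u * g2) * g2⁻¹ := by group
          _ = _ := by rw [mul_assoc g2⁻¹, ← (memM g2).mp hg2]; group]
      exact (isConj_conj_iff g2).mpr hzeu
    obtain ⟨h, -, hhe⟩ := (D.isP_iff R he).1 heP
    have hcomm : ∀ {x : G}, x * ι e = ι e * x → h⁻¹ * x * h * z = z * (h⁻¹ * x * h) := by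
      intro x hx
      rw [← hhe] at hx
      calc h⁻¹ * x * h * z = h⁻¹ * (x * (h * z * h⁻¹)) * h := by group
        _ = h⁻¹ * (h * z * h⁻¹ * x) * h := by rw [hx]
        _ = _ := by group
    have sq : ∀ {x : G}, x * x = 1 → h⁻¹ * x * h * (h⁻¹ * x * h) = 1 := fun {x} hx => by
      calc h⁻¹ * x * h * (h⁻¹ * x * h) = h⁻¹ * (x * x) * h := by group
        _ = 1 := by rw [hx]; group
    have ne : ∀ {x : G}, x ≠ 1 → h⁻¹ * x * h ≠ 1 := fun {x} hx hh => hx (by
      calc x = h * (h⁻¹ * x * h) * h⁻¹ := by group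
        _ = 1 := by rw [hh]; group)
    have v2 : v * v = 1 := by
      calc v * v = m⁻¹ * (w * w) * m := by rw [hv]; group
        _ = 1 := by rw [w2]; group
    have v1 : v ≠ 1 := fun hh => w1 (by
      calc w = m * v * m⁻¹ := by rw [hv]; group
        _ = 1 := by rw [hh]; group)
    obtain ⟨a0, ha0, hae⟩ := R.code_of_invol (hcomm heC.symm) (sq u2) (ne u1)
    have ha0z : a0 ≠ zc := by
      rintro rfl
      refine hnu ?_
      rw [R.z_eq] at hae
      exact isConj_iff.mpr ⟨h, by nth_rewrite 1 [hae]; group⟩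
    obtain ⟨hr, c, oc, hc⟩ := cls_spec ha0 ha0z
    set r := cls a0
    set h' := h * ι c with hh'
    have oa := invReps_ok hr
    have hz' : h' * z * h'⁻¹ = ι e := by
      rw [← hhe, hh']
      calc h * ι c * z * (h * ι c)⁻¹ = h * (ι c * z) * (ι c)⁻¹ * h⁻¹ := by group
        _ = h * (z * ι c) * (ι c)⁻¹ * h⁻¹ := by rw [R.comm oc]
        _ = _ := by group
    have hua : ι (invReps.getD r 0) = h'⁻¹ * ι u * h' := by
      rw [hh', mul_inv_rev]
      calc ι (invReps.getD r 0)
          = (ι c)⁻¹ * (ι c * ι (invReps.getD r 0) * (ι c)⁻¹) * ι c := by group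
        _ = (ι c)⁻¹ * (h⁻¹ * ι u * h) * ι c := by rw [← R.conj_eq oc oa, hc, hae]
        _ = _ := by group
    obtain ⟨b, hb, hbe⟩ := R.code_of_invol (w := h'⁻¹ * v * h') (by
        rw [← hz'] at hev
        calc h'⁻¹ * v * h' * z = h'⁻¹ * (v * (h' * z * h'⁻¹)) * h' := by group
          _ = h'⁻¹ * (h' * z * h'⁻¹ * v) * h' := by rw [hev]
          _ = _ := by group) (by
        calc h'⁻¹ * v * h' * (h'⁻¹ * v * h') = h'⁻¹ * (v * v) * h' := by group
          _ = 1 := by rw [v2]; group) (fun hh => v1 (by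
        calc v = h' * (h'⁻¹ * v * h') * h'⁻¹ := by group
          _ = 1 := by rw [hh]; group))
    have ob := invC_ok hb
    have ha : invC (invReps.getD r 0) = true := by
      have hall : ((List.range 7).all fun r => invC (invReps.getD r 0)) = true := by decide +kernel
      exact range_all hall hr
    have toP : ∀ {x : G}, IsConj z x → IsConj z (h'⁻¹ * x * h') := fun {x} hx => by
      simpa using (isConj_conj_iff (z := z) (x := x) h'⁻¹).mpr hx
    have fromP : ∀ {x : G}, IsConj z (h'⁻¹ * x * h') → IsConj z x := fun {x} hx => by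
      simpa [mul_assoc] using (isConj_conj_iff (z := z) (x := h'⁻¹ * x * h') h').mpr hx
    have hab : cmul b (invReps.getD r 0) = cmul (invReps.getD r 0) b := by
      rw [R.commute_iff ob oa, hbe, hua]
      calc h'⁻¹ * v * h' * (h'⁻¹ * ι u * h') = h'⁻¹ * (v * ι u) * h' := by group
        _ = h'⁻¹ * (ι u * v) * h' := by rw [hvu]
        _ = _ := by group
    have hzb : IsConj z (z * ι b) := by
      rw [hbe, show z * (h'⁻¹ * v * h') = h'⁻¹ * (h' * z * h'⁻¹ * v) * h' by group, hz']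
      exact toP hP1
    have hza : IsConj z (z * ι (invReps.getD r 0)) := by
      rw [hua, show z * (h'⁻¹ * ι u * h') = h'⁻¹ * (h' * z * h'⁻¹ * ι u) * h' by group, hz']
      exact toP hzeu
    have hzab : IsConj z (z * ι (invReps.getD r 0) * ι b) := by
      rw [hua, hbe, show z * (h'⁻¹ * ι u * h') * (h'⁻¹ * v * h') =
        h'⁻¹ * (h' * z * h'⁻¹ * ι u * v) * h' by group, hz']
      exact toP hP2
    have hnb : ¬ IsConj z (ι b) := fun hh => hnw (by
      rw [hbe] at hh
      simpa [hv, mul_assoc] using (isConj_conj_iff (z := z) m).mpr (fromP hh))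
    have hnab : ¬ IsConj z (ι (invReps.getD r 0) * ι b) := fun hh => hnuw (by
      rw [hua, hbe, show h'⁻¹ * ι u * h' * (h'⁻¹ * v * h') = h'⁻¹ * (ι u * v) * h' by group] at hh
      rw [show ι u * w = m * (ι u * v) * m⁻¹ by
        rw [hv, ← mul_assoc m, hm]; group]
      exact (isConj_conj_iff m).mpr (fromP hh))
    have hna : Pc.contains r = false := by
      cases hP : Pc.contains r with
      | false => rfl
      | true =>
        obtain ⟨g, -, hg'⟩ := D.pos r hr hP
        refine absurd (fromP ?_) hnu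
        rw [← hua, ← hg']
        exact isConj_iff.mpr ⟨g, rfl⟩
    have ca := range_all hE hr
    rw [hna] at ca
    have hza' : isP Pc (cmul zc (invReps.getD r 0)) = true := by
      rw [D.P_iff R (invC_mul invC_zc ha (zc_comm oa).symm (fun e' => ?_)), R.hmul _ _ ok_zc oa,
        R.z_eq]
      · exact hza
      · rw [← e', R.z_eq, ← pow_two, pow_two, z_sq R] at hza
        exact not_isConj_one R hza
    simp only [hza', Bool.false_or, Bool.not_true] at ca
    have cb := invScan_spec ca hb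
    simp only [comC, hab, beq_self_eq_true, cond_true] at cb
    by_cases hbae : b = invReps.getD r 0
    · -- then the third involution is the given one
      have hvu2 : v = ι u := by
        calc v = h' * (h'⁻¹ * v * h') * h'⁻¹ := by group
          _ = h' * (h'⁻¹ * ι u * h') * h'⁻¹ := by rw [← hbe, ← hua, hbae]
          _ = ι u := by group
      have hwu2 : w = ι u := by
        calc w = m * v * m⁻¹ := by rw [hv]; group
          _ = ι u := by rw [hvu2, hm]; group
      refine hzu ?_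
      rw [← hwu2, ← hz1]
      exact isConj_iff.mpr ⟨g1, rfl⟩
    · simp only [beq_eq_false_iff_ne.mpr hbae, Bool.false_or] at cb
      have hbz : b ≠ zc := fun e' => hnb (by rw [e', R.z_eq])
      have h1 : isP Pc b = false := by
        rw [← Bool.not_eq_true, D.P_iff R hb]; exact hnb
      have h2 : isP Pc (cmul (invReps.getD r 0) b) = false := by
        rw [← Bool.not_eq_true, D.P_mul R ha hb hab.symm (Ne.symm hbae)]; exact hnab
      have h3 : isP Pc (cmul zc b) = true := by
        rw [D.P_mul R invC_zc hb (zc_comm ob).symm hbz.symm, R.z_eq]; exact hzb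
      have h4 : isP Pc (cmul (cmul zc (invReps.getD r 0)) b) = true := by
        have hza'' : invC (cmul zc (invReps.getD r 0)) = true :=
          invC_mul invC_zc ha (zc_comm oa).symm (fun e' => not_isConj_one R (by
            rwa [← e', R.z_eq, z_sq R] at hza))
        rw [D.P_mul R hza'' hb ?_ (fun e' => not_isConj_one R ?_), R.hmul _ _ ok_zc oa, R.z_eq]
        · exact hzab
        · rw [cmul_assoc ok_zc oa ob, ← hab, ← cmul_assoc ok_zc ob oa, ← zc_comm ob,
            cmul_assoc ob ok_zc oa]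
        · rw [← e', R.hmul _ _ ok_zc oa, R.z_eq] at hzab
          rwa [← (R.invol hza'').1, R.hmul _ _ ok_zc oa, R.z_eq]
      simp [h1, h2, h3, h4, -List.getD_eq_getElem?_getD] at cb
  · -- the central involution times the third one is conjugate to the other
    obtain ⟨b, hb, hbe⟩ := R.code_of_invol hwz w2 w1
    have ob := invC_ok hb
    have hP1 : IsConj z (z * w) := by
      rw [← hge]; exact (isConj_conj_iff g).mpr ((D.P_iff R he).mp heP)
    have hP2 : IsConj z (z * w * ι u) := by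
      rw [show z * w * ι u = g * (ι e * ι u) * g⁻¹ by
        calc z * w * ι u = g * ι e * g⁻¹ * ι u := by rw [hge]
          _ = g * ι e * (g⁻¹ * ι u * g) * g⁻¹ := by group
          _ = _ := by rw [mul_assoc g⁻¹, ← (memM g).mp hg]; group]
      exact (isConj_conj_iff g).mpr hzeu
    have hbu : cmul b u = cmul u b := by rw [R.commute_iff ob ou, hbe, hwu']
    have cb := invScan_spec hO hb
    simp only [comC, hbu, beq_self_eq_true, cond_true] at cb
    have hbz : b ≠ zc := fun e' => hnw (by rw [← hbe, e', R.z_eq])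
    have hb2 : b ≠ u := fun e' => hzu (by rw [← e', hbe]; exact hP1)
    have h1 : isP Pc b = false := by
      rw [← Bool.not_eq_true, D.P_iff R hb, hbe]; exact hnw
    have h2 : isP Pc (cmul u b) = false := by
      rw [← Bool.not_eq_true, D.P_mul R hu hb hbu.symm hb2.symm, hbe]; exact hnuw
    have h3 : isP Pc (cmul zc b) = true := by
      rw [D.P_mul R invC_zc hb (zc_comm ob).symm hbz.symm, R.z_eq, hbe]; exact hP1
    have h4 : isP Pc (cmul (cmul zc b) u) = true := by
      have hzb : invC (cmul zc b) = true := invC_mul invC_zc hb (zc_comm ob).symm hbz.symm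
      rw [D.P_mul R hzb hu ?_ (fun e' => not_isConj_one R ?_), R.hmul _ _ ok_zc ob, R.z_eq, hbe]
      · exact hP2
      · rw [cmul_assoc ok_zc ob ou, hbu, ← cmul_assoc ok_zc ou ob, ← zc_comm ou,
          cmul_assoc ou ok_zc ob]
      · rw [← e', R.hmul _ _ ok_zc ob, R.z_eq, hbe] at hP2
        rwa [← (R.invol hzb).1, R.hmul _ _ ok_zc ob, R.z_eq, hbe]
    simp only [h1, h2, h3, h4, Bool.false_or, Bool.not_true, Bool.or_eq_true, beq_iff_eq] at cb
    refine hm0 (heF m (hV _ hmu.symm ?_))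
    rcases cb with rfl | rfl
    · rw [hbe, hwe]
    · have e0 : ι w0 = ι u * w := by
        rw [← hbe, R.hmul _ _ ou ow, ← mul_assoc, u2, one_mul]
      rw [e0, ← mul_assoc, ← hmu, mul_assoc, ← hwe, ← mul_assoc]

/-- The checks of the second step. -/
noncomputable def secondOK (Pc : List ℕ) (u w e : ℕ) : Bool :=
  invC u && invC w && invC e && comC u w && comC e u && comC e w && isP Pc e &&
  !(u == w) && !(u == zc) && !(w == zc) && !(e == u) && !(e == w) &&
  !(isP Pc (cmul zc u)) && !(isP Pc (cmul zc w)) && !(isP Pc (cmul zc (cmul u w))) &&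
  (isP Pc (cmul e u) || isP Pc (cmul e w)) &&
  invScan (fun b => bif comC b u && comC b w then
    isP Pc b || isP Pc (cmul b u) || isP Pc (cmul b w) || isP Pc (cmul (cmul b u) w) ||
      !(isP Pc (cmul zc b)) else true)

/-- The centralizer of a four-group. -/
theorem cent_of_second [Finite G] (D : Ctx z ι G0 Pc) (R : Rep z ι) {u w e : ℕ}
    (h : secondOK Pc u w e = true) :
    ∀ g : G, g * ι u = ι u * g → g * ι w = ι w * g → g ∈ G0 := by
  simp only [secondOK, comC, Bool.and_eq_true, beq_iff_eq, Bool.not_eq_true',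
    beq_eq_false_iff_ne] at h
  obtain ⟨⟨⟨⟨⟨⟨⟨⟨⟨⟨⟨⟨⟨⟨⟨⟨hu, hw⟩, he⟩, huw⟩, heu⟩, hew⟩, heP⟩, hne⟩, huz⟩, hwz⟩, heu'⟩, hew'⟩,
    hzuP⟩, hzwP⟩, hzuwP⟩, hor⟩, hscan⟩ := h
  have ou := invC_ok hu; have ow := invC_ok hw; have oe := invC_ok he
  have heF : Fix G0 (ι e) := D.fix_isP R he heP
  intro m hmu hmw
  by_contra hm0
  set M := Subgroup.centralizer ({ι u, ι w} : Set G) with hM
  have memM : ∀ g : G, g ∈ M ↔ g * ι u = ι u * g ∧ g * ι w = ι w * g := fun g => by
    rw [hM, Subgroup.mem_centralizer_iff]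
    constructor
    · intro h; exact ⟨(h _ (Or.inl rfl)).symm, (h _ (Or.inr rfl)).symm⟩
    · rintro ⟨h1, h2⟩ x (rfl | rfl)
      exacts [h1.symm, h2.symm]
  have hzu : ¬ IsConj z (z * ι u) := fun hh => by
    rw [(D.P_mul R invC_zc hu (zc_comm ou).symm huz.symm).mpr (by rwa [R.z_eq])] at hzuP
    exact Bool.noConfusion hzuP
  have hzw : ¬ IsConj z (z * ι w) := fun hh => by
    rw [(D.P_mul R invC_zc hw (zc_comm ow).symm hwz.symm).mpr (by rwa [R.z_eq])] at hzwP
    exact Bool.noConfusion hzwP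
  have tr : ∀ {g : G}, g ∈ M → ∀ {x y v : G}, (v = ι u ∨ v = ι w) → g * x * g⁻¹ = y →
      (IsConj z (y * v) ↔ IsConj z (x * v)) := fun {g} hg {x y v} hv hxy => by
    have hgv : g * v = v * g := by
      rcases hv with rfl | rfl
      exacts [((memM g).mp hg).1, ((memM g).mp hg).2]
    rw [show y * v = g * (x * v) * g⁻¹ by
      rw [← hxy]
      calc g * x * g⁻¹ * v = g * x * (g⁻¹ * (v * g)) * g⁻¹ := by group
        _ = g * (x * v) * g⁻¹ := by rw [← hgv]; group]
    exact isConj_conj_iff g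
  obtain ⟨x, hxM, x1, x2, hxz, hxe, hcase⟩ := pair_step (m := m) (G0 := G0) (z_sq R)
    (R.invol he).1 ((memM z).mpr ⟨(R.comm ou).symm, (R.comm ow).symm⟩) D.zmem
    ((memM _).mpr ⟨(R.commute_iff oe ou).mp heu, (R.commute_iff oe ow).mp hew⟩) heF (by
      rintro ⟨g, -, hg, hge⟩
      simp only [Bool.or_eq_true] at hor
      rcases hor with h' | h'
      · exact hzu ((tr hg (Or.inl rfl) hge).mpr ((D.P_mul R he hu heu heu').mp h'))
      · exact hzw ((tr hg (Or.inr rfl) hge).mpr ((D.P_mul R he hw hew hew').mp h'))) ((memM m).mpr ⟨hmu, hmw⟩)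
  obtain ⟨hxu, hxw⟩ := (memM x).mp hxM
  have hxG : x ∈ G0 := D.cent x hxz
  set e' := m * ι e * m⁻¹
  have comm' : ∀ {v : G}, m * v = v * m → ι e * v = v * ι e → e' * v = v * e' := fun {v} h1 h2 => by
    calc m * ι e * m⁻¹ * v = m * ι e * (m⁻¹ * (v * m)) * m⁻¹ := by group
      _ = m * (ι e * v) * m⁻¹ := by rw [← h1]; group
      _ = m * v * ι e * m⁻¹ := by rw [h2]; group
      _ = v * (m * ι e * m⁻¹) := by rw [h1]; group
  have heu2 := comm' hmu ((R.commute_iff oe ou).mp heu)
  have hew2 := comm' hmw ((R.commute_iff oe ow).mp hew)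
  have hcom : ∀ {y : G}, y ∈ G0 → y * e' = e' * y → ¬ IsConj z y := fun hy hc hh =>
    hm0 (mem_of_moved heF (D.fix_of_isConj R hy hh) hy hc)
  have hzx : IsConj z (z * x) := by
    rcases hcase with ⟨⟨g, -, hg⟩, -⟩ | ⟨g, -, hg⟩
    · exact isConj_iff.mpr ⟨g, hg⟩
    · rw [← hg]; exact (isConj_conj_iff g).mpr ((D.P_iff R he).mp heP)
  obtain ⟨b, hb, hbe⟩ := R.code_of_invol hxz x2 x1
  have ob := invC_ok hb
  have hbu : cmul b u = cmul u b := by rw [R.commute_iff ob ou, hbe, hxu]
  have hbw : cmul b w = cmul w b := by rw [R.commute_iff ob ow, hbe, hxw]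
  have cb := invScan_spec hscan hb
  simp only [comC, hbu, hbw, beq_self_eq_true, Bool.and_self, cond_true] at cb
  have h1 : isP Pc b = false := by
    rw [← Bool.not_eq_true, D.P_iff R hb, hbe]; exact hcom hxG hxe
  have hbz : b ≠ zc := fun e0 => hcom hxG hxe (by rw [← hbe, e0, R.z_eq])
  have hbu' : b ≠ u := fun e0 => hzu (by rw [← e0, hbe]; exact hzx)
  have hbw' : b ≠ w := fun e0 => hzw (by rw [← e0, hbe]; exact hzx)
  have h2 : isP Pc (cmul b u) = false := by
    rw [← Bool.not_eq_true, D.P_mul R hb hu hbu hbu', hbe]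
    refine hcom (G0.mul_mem hxG (D.mem R ou)) ?_
    rw [mul_assoc, ← heu2, ← mul_assoc, hxe, mul_assoc]
  have h3 : isP Pc (cmul b w) = false := by
    rw [← Bool.not_eq_true, D.P_mul R hb hw hbw hbw', hbe]
    refine hcom (G0.mul_mem hxG (D.mem R ow)) ?_
    rw [mul_assoc, ← hew2, ← mul_assoc, hxe, mul_assoc]
  have h5 : isP Pc (cmul zc b) = true := by
    rw [D.P_mul R invC_zc hb (zc_comm ob).symm hbz.symm, R.z_eq, hbe]; exact hzx
  have h4 : isP Pc (cmul (cmul b u) w) = false := by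
    by_cases hq : cmul b u = w
    · exfalso
      have hu2 : cmul u u = one := R.inj _ _ (ok_cmul ou ou) ok_one (by
        rw [R.hmul _ _ ou ou, (R.invol hu).1, R.hone])
      have hb' : b = cmul u w := by
        rw [← hq, hbu, ← cmul_assoc ou ou ob, hu2, (cmul_one ob).2]
      rw [← hb', h5] at hzuwP
      exact Bool.noConfusion hzuwP
    · have hbu2 := invC_mul hb hu hbu hbu'
      have hc : cmul (cmul b u) w = cmul w (cmul b u) := by
        rw [cmul_assoc ob ou ow, huw, ← cmul_assoc ob ow ou, hbw, cmul_assoc ow ob ou]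
      rw [← Bool.not_eq_true, D.P_mul R hbu2 hw hc hq, R.hmul _ _ ob ou, hbe]
      refine hcom (G0.mul_mem (G0.mul_mem hxG (D.mem R ou)) (D.mem R ow)) ?_
      rw [mul_assoc, ← hew2, ← mul_assoc, mul_assoc x, ← heu2, ← mul_assoc, hxe, mul_assoc e',
        mul_assoc e', mul_assoc]
  simp [h1, ← hbu, ← hbw, h2, h3, h4, h5] at cb

/-- Transport of the second step by a table. -/
theorem cent_transport (R : Rep z ι) {H : Subgroup G} {t : Tree (ℕ × ℕ)} {s : G} (ht : TabAct ι t s)
    (hs : s ∈ H) {c u w u' w' mu mw : ℕ} (hc : ok c = true) (hcH : ι c ∈ H) (hu : ok u = true)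
    (hw : ok w = true) (hmu : mu < 1536) (hmw : mw < 1536) (eu : t.get mu = (conj c u, u'))
    (ew : t.get mw = (conj c w, w'))
    (hV : ∀ g : G, g * ι u' = ι u' * g → g * ι w' = ι w' * g → g ∈ H) :
    ∀ g : G, g * ι u = ι u * g → g * ι w = ι w * g → g ∈ H := by
  intro g h1 h2
  set k := s * ι c
  have hk : k ∈ H := H.mul_mem hs hcH
  have moved : ∀ {x x' n : ℕ}, n < 1536 → ok x = true → t.get n = (conj c x, x') →
      g * ι x = ι x * g → k * g * k⁻¹ * ι x' = ι x' * (k * g * k⁻¹) := by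
    intro x x' n hn hx e hg
    obtain ⟨-, ha⟩ := ht n hn
    rw [e] at ha
    simp only at ha
    have ex : k * ι x * k⁻¹ = ι x' := by
      rw [← ha, R.conj_eq hc hx]; simp only [k]; group
    rw [← ex]
    calc k * g * k⁻¹ * (k * ι x * k⁻¹) = k * (g * ι x) * k⁻¹ := by group
      _ = k * (ι x * g) * k⁻¹ := by rw [hg]
      _ = _ := by group
  have := hV _ (moved hmu hu eu h1) (moved hmw hw ew h2)
  simpa [mul_assoc] using H.mul_mem (H.mul_mem (H.inv_mem hk) this) hk

end CfsgLib.HeUnique
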